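/-
Automorphisms of `SL₂` over a finite field of odd order commuting with the diagonal involution,
and their extensions to `SL₃`.
-/
import Mathlib

set_option autoImplicit false

namespace CfsgLib.CTRec

open Matrix

variable {F : Type*} [Field F]

theorem val_mul' {n : ℕ} (a b : SpecialLinearGroup (Fin n) F) : (a * b).1 = a.1 * b.1 := rfl

theorem val_one' {n : ℕ} : (1 : SpecialLinearGroup (Fin n) F).1 = 1 := rfl

theorem val_inv' {n : ℕ} (a : SpecialLinearGroup (Fin n) F) : (a⁻¹).1 = a.1.adjugate := rfl

/-- Upper unitriangular. -/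
def uu (t : F) : SpecialLinearGroup (Fin 2) F := ⟨!![1, t; 0, 1], by simp [Matrix.det_fin_two]⟩

/-- Lower unitriangular. -/
def ll (t : F) : SpecialLinearGroup (Fin 2) F := ⟨!![1, 0; t, 1], by simp [Matrix.det_fin_two]⟩

theorem uu_add (a b : F) : uu (a + b) = uu a * uu b := by
  refine Subtype.ext ?_
  rw [val_mul']
  ext i j
  fin_cases i <;> fin_cases j <;> simp [uu, Matrix.mul_apply, Fin.sum_univ_two]; ring

theorem ll_add (a b : F) : ll (a + b) = ll a * ll b := by
  refine Subtype.ext ?_
  rw [val_mul']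
  ext i j
  fin_cases i <;> fin_cases j <;> simp [ll, Matrix.mul_apply, Fin.sum_univ_two]

theorem uu_zero : uu (0 : F) = 1 := by
  refine Subtype.ext ?_; ext i j; fin_cases i <;> fin_cases j <;> simp [uu]

theorem ll_zero : ll (0 : F) = 1 := by
  refine Subtype.ext ?_; ext i j; fin_cases i <;> fin_cases j <;> simp [ll]

theorem uu_inj : Function.Injective (uu (F := F)) := fun a b h => by
  simpa [uu] using congrFun (congrFun (congrArg Subtype.val h) 0) 1

theorem ll_inj : Function.Injective (ll (F := F)) := fun a b h => by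
  simpa [ll] using congrFun (congrFun (congrArg Subtype.val h) 1) 0

theorem neg_inv_symm (g : SpecialLinearGroup (Fin 2) F) : (g⁻¹).1 = !![g.1 1 1, -g.1 0 1; -g.1 1 0, g.1 0 0] := by
  rw [val_inv', Matrix.adjugate_fin_two]

theorem ext_gen {G : Type*} [Group G] {f g : SpecialLinearGroup (Fin 2) F →* G}
    (hu : ∀ t, f (uu t) = g (uu t)) (hl : ∀ t, f (ll t) = g (ll t)) : f = g := by
  refine MonoidHom.ext fun m => ?_
  have key : ∀ m : SpecialLinearGroup (Fin 2) F, m.1 1 0 ≠ 0 → f m = g m := by
    intro m hc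
    have hdet := m.2
    rw [Matrix.det_fin_two] at hdet
    have e : m = uu ((m.1 0 0 - 1) / m.1 1 0) * ll (m.1 1 0) * uu ((m.1 1 1 - 1) / m.1 1 0) := by
      refine Subtype.ext ?_
      rw [val_mul', val_mul']
      ext i j
      fin_cases i <;> fin_cases j <;> simp [uu, ll, Matrix.mul_apply, Fin.sum_univ_two]
      · field_simp; ring
      · field_simp; linear_combination (-1 : F) * hdet
      · field_simp; ring
    rw [e]
    simp only [map_mul, hu, hl]
  by_cases hc : m.1 1 0 = 0
  · have hdet := m.2
    rw [Matrix.det_fin_two, hc, mul_zero, sub_zero] at hdet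
    have := key (ll 1 * m) (by
      rw [val_mul']
      simp [ll, Matrix.mul_apply, Fin.sum_univ_two, hc, left_ne_zero_of_mul_eq_one hdet])
    rw [map_mul, map_mul, hl] at this
    exact mul_left_cancel this
  · exact key m hc

theorem mem_of_gens (Q : Subgroup (SpecialLinearGroup (Fin 2) F)) (hu : ∀ t, uu t ∈ Q) (hl : ∀ t, ll t ∈ Q)
    (m : SpecialLinearGroup (Fin 2) F) : m ∈ Q := by
  have key : ∀ m : SpecialLinearGroup (Fin 2) F, m.1 1 0 ≠ 0 → m ∈ Q := by
    intro m hc
    have hdet := m.2
    rw [Matrix.det_fin_two] at hdet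
    have e : m = uu ((m.1 0 0 - 1) / m.1 1 0) * ll (m.1 1 0) * uu ((m.1 1 1 - 1) / m.1 1 0) := by
      refine Subtype.ext ?_
      rw [val_mul', val_mul']
      ext i j
      fin_cases i <;> fin_cases j <;> simp [uu, ll, Matrix.mul_apply, Fin.sum_univ_two]
      · field_simp; ring
      · field_simp; linear_combination (-1 : F) * hdet
      · field_simp; ring
    rw [e]; exact mul_mem (mul_mem (hu _) (hl _)) (hu _)
  by_cases hc : m.1 1 0 = 0
  · have hdet := m.2
    rw [Matrix.det_fin_two, hc, mul_zero, sub_zero] at hdet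
    have := key (ll 1 * m) (by
      rw [val_mul']
      simp [ll, Matrix.mul_apply, Fin.sum_univ_two, hc, left_ne_zero_of_mul_eq_one hdet])
    exact (Q.mul_mem_cancel_left (hl 1)).mp this
  · exact key m hc

/-- Conjugation by `diag(1,-1)`. -/
def delta : SpecialLinearGroup (Fin 2) F →* SpecialLinearGroup (Fin 2) F where
  toFun g := ⟨!![g.1 0 0, -g.1 0 1; -g.1 1 0, g.1 1 1], by
    rw [Matrix.det_fin_two]; have := g.2; rw [Matrix.det_fin_two] at this
    simpa using this⟩
  map_one' := by refine Subtype.ext ?_; ext i j; fin_cases i <;> fin_cases j <;> simp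
  map_mul' a b := by
    refine Subtype.ext ?_
    refine Eq.trans ?_ (val_mul' _ _).symm
    simp only [val_mul']
    ext i j
    fin_cases i <;> fin_cases j <;> simp [Matrix.mul_apply, Fin.sum_univ_two] <;> ring

theorem delta_val (g : SpecialLinearGroup (Fin 2) F) :
    (delta g).1 = !![g.1 0 0, -g.1 0 1; -g.1 1 0, g.1 1 1] := rfl

theorem delta_uu (t : F) : delta (uu t) = (uu t)⁻¹ := by
  refine Subtype.ext ?_; rw [neg_inv_symm]
  rw [delta_val]; ext i j; fin_cases i <;> fin_cases j <;> simp [uu]

theorem delta_ll (t : F) : delta (ll t) = (ll t)⁻¹ := by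
  refine Subtype.ext ?_; rw [neg_inv_symm]
  rw [delta_val]; ext i j; fin_cases i <;> fin_cases j <;> simp [ll]

/-- Inverse transpose. -/
def theta : SpecialLinearGroup (Fin 2) F ≃* SpecialLinearGroup (Fin 2) F where
  toFun g := ⟨!![g.1 1 1, -g.1 1 0; -g.1 0 1, g.1 0 0], by
    rw [Matrix.det_fin_two]; have := g.2; rw [Matrix.det_fin_two] at this
    simp; linear_combination this⟩
  invFun g := ⟨!![g.1 1 1, -g.1 1 0; -g.1 0 1, g.1 0 0], by
    rw [Matrix.det_fin_two]; have := g.2; rw [Matrix.det_fin_two] at this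
    simp; linear_combination this⟩
  left_inv g := by refine Subtype.ext ?_; ext i j; fin_cases i <;> fin_cases j <;> simp
  right_inv g := by refine Subtype.ext ?_; ext i j; fin_cases i <;> fin_cases j <;> simp
  map_mul' a b := by
    refine Subtype.ext ?_
    refine Eq.trans ?_ (val_mul' _ _).symm
    simp only [val_mul']
    ext i j
    fin_cases i <;> fin_cases j <;> simp [Matrix.mul_apply, Fin.sum_univ_two] <;> ring

theorem theta_val (g : SpecialLinearGroup (Fin 2) F) :
    (theta g).1 = !![g.1 1 1, -g.1 1 0; -g.1 0 1, g.1 0 0] := rfl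

theorem theta_uu (t : F) : theta (uu t) = ll (-t) := by
  refine Subtype.ext ?_; rw [theta_val]; ext i j; fin_cases i <;> fin_cases j <;> simp [uu, ll]

theorem theta_ll (t : F) : theta (ll t) = uu (-t) := by
  refine Subtype.ext ?_; rw [theta_val]; ext i j; fin_cases i <;> fin_cases j <;> simp [uu, ll]

theorem theta_delta (g : SpecialLinearGroup (Fin 2) F) : theta (delta g) = delta (theta g) := by
  refine Subtype.ext ?_; ext i j; fin_cases i <;> fin_cases j <;> simp [theta_val, delta_val]

section Odd

variable [Fintype F] {p : ℕ} [Fact p.Prime] [CharP F p]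

theorem two_ne_zero_of_odd (hF : Odd (Fintype.card F)) : (2 : F) ≠ 0 := by
  intro h
  have h2 : CharP F 2 := CharTwo.of_one_ne_zero_of_two_eq_zero one_ne_zero h
  obtain ⟨n, -, hc⟩ := FiniteField.card F 2
  rw [hc] at hF
  exact Nat.not_even_iff_odd.mpr hF ((Nat.even_pow).mpr ⟨even_two, n.pos.ne'⟩)

omit [Fintype F] in
theorem sq_eq_one (h2 : (2 : F) ≠ 0) {x : SpecialLinearGroup (Fin 2) F} (h : x * x = 1) (hx : x ≠ 1) :
    x.1 = -1 := by
  have e : x⁻¹ = x := inv_eq_of_mul_eq_one_right h
  have ev := congrArg Subtype.val e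
  rw [neg_inv_symm] at ev
  have h00 := congrFun (congrFun ev 0) 0
  have h01 := congrFun (congrFun ev 0) 1
  have h10 := congrFun (congrFun ev 1) 0
  simp at h00 h01 h10
  have hb : x.1 0 1 = 0 := by
    have : (2 : F) * x.1 0 1 = 0 := by linear_combination (-1 : F) * h01
    exact (mul_eq_zero.mp this).resolve_left h2
  have hc : x.1 1 0 = 0 := by
    have : (2 : F) * x.1 1 0 = 0 := by linear_combination (-1 : F) * h10
    exact (mul_eq_zero.mp this).resolve_left h2
  have hdet := x.2
  rw [Matrix.det_fin_two, hb, hc, h00] at hdet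
  rcases mul_self_eq_one_iff.mp (by simpa using hdet : x.1 0 0 * x.1 0 0 = 1) with e1 | e1
  · exfalso; apply hx; refine Subtype.ext ?_
    ext i j; fin_cases i <;> fin_cases j <;> simp [hb, hc, h00, e1]
  · ext i j; fin_cases i <;> fin_cases j <;> simp [hb, hc, h00, e1]

omit [Fintype F] in
theorem uu_pow (t : F) (n : ℕ) : uu t ^ n = uu ((n : F) * t) := by
  induction n with
  | zero => simp [uu_zero]
  | succ k ih => rw [pow_succ, ih, ← uu_add]; congr 1; push_cast; ring

omit [Fintype F] in
theorem ll_pow (t : F) (n : ℕ) : ll t ^ n = ll ((n : F) * t) := by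
  induction n with
  | zero => simp [ll_zero]
  | succ k ih => rw [pow_succ, ih, ← ll_add]; congr 1; push_cast; ring

omit [Fintype F] in
theorem anti_fixed (h2 : (2 : F) ≠ 0) {g : SpecialLinearGroup (Fin 2) F} (hd : delta g = g⁻¹)
    (hp : g ^ p = 1) : (∃ t, g = uu t) ∨ ∃ t, g = ll t := by
  have ev := congrArg Subtype.val hd
  rw [neg_inv_symm] at ev
  have h00 : g.1 0 0 = g.1 1 1 := by simpa [delta_val] using congrFun (congrFun ev 0) 0
  have hdet := g.2
  rw [Matrix.det_fin_two] at hdet
  have hsq : (g.1 - 1) ^ p = 0 := by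
    rw [sub_pow_char_of_commute (R := Matrix (Fin 2) (Fin 2) F) (p := p) (h := Commute.one_right _), one_pow,
      ← show (g ^ p).1 = g.1 ^ p from Matrix.SpecialLinearGroup.coe_pow g p, hp, val_one', sub_self]
  have hd0 : (g.1 - 1).det = 0 := by
    have := congrArg Matrix.det hsq
    rw [Matrix.det_pow, Matrix.det_zero] at this
    exact eq_zero_of_pow_eq_zero this
  rw [Matrix.det_fin_two] at hd0
  simp only [Matrix.sub_apply, Matrix.one_apply_eq, Matrix.one_apply_ne (show (0 : Fin 2) ≠ 1 by decide),
    Matrix.one_apply_ne (show (1 : Fin 2) ≠ 0 by decide), sub_zero] at hd0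
  rw [← h00] at hd0 hdet
  have ha : g.1 0 0 = 1 := by
    have : (2 : F) * (g.1 0 0 - 1) = 0 := by linear_combination hdet - hd0
    exact sub_eq_zero.mp ((mul_eq_zero.mp this).resolve_left h2)
  have hbc : g.1 0 1 * g.1 1 0 = 0 := by rw [ha] at hdet; linear_combination (-1 : F) * hdet
  rcases mul_eq_zero.mp hbc with e | e
  · refine Or.inr ⟨g.1 1 0, Subtype.ext ?_⟩
    ext i j; fin_cases i <;> fin_cases j <;> simp [ll, ha, ← h00, e]
  · refine Or.inl ⟨g.1 0 1, Subtype.ext ?_⟩
    ext i j; fin_cases i <;> fin_cases j <;> simp [uu, ha, ← h00, e]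

/-- An automorphism commuting with `delta` is monomial times a field automorphism. -/
theorem aut_delta (hF : Odd (Fintype.card F))
    (α : SpecialLinearGroup (Fin 2) F ≃* SpecialLinearGroup (Fin 2) F)
    (hα : ∀ g, α (delta g) = delta (α g)) :
    ∃ (σ : F ≃+* F) (c : Fˣ),
      (∀ t, α (uu t) = uu ((c : F) * σ t) ∧ α (ll t) = ll (σ t / (c : F))) ∨
      (∀ t, theta (α (uu t)) = uu ((c : F) * σ t) ∧ theta (α (ll t)) = ll (σ t / (c : F))) := by
  obtain ⟨p, hpF⟩ := CharP.exists F
  haveI : Fact p.Prime := ⟨CharP.char_is_prime F p⟩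
  have h2 := two_ne_zero_of_odd hF
  have himg : ∀ g, delta g = g⁻¹ → g ^ p = 1 → (∃ t, α g = uu t) ∨ ∃ t, α g = ll t := fun g hd hp =>
    anti_fixed (p := p) h2 (by rw [← hα, hd, map_inv]) (by rw [← map_pow, hp, map_one])
  have hpu : ∀ t : F, uu t ^ p = 1 := fun t => by rw [uu_pow, CharP.cast_eq_zero, zero_mul, uu_zero]
  have hpl : ∀ t : F, ll t ^ p = 1 := fun t => by rw [ll_pow, CharP.cast_eq_zero, zero_mul, ll_zero]
  -- one-sided images
  have side : ∀ v : F → SpecialLinearGroup (Fin 2) F, (∀ a b, v (a + b) = v a * v b) →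
      (∀ t, delta (v t) = (v t)⁻¹) → (∀ t, v t ^ p = 1) →
      (∀ t, ∃ s, α (v t) = uu s) ∨ (∀ t, ∃ s, α (v t) = ll s) := by
    intro v hv hd hp
    by_contra hcon
    push Not at hcon
    obtain ⟨⟨a, ha⟩, b, hb⟩ := hcon
    obtain ⟨x, hx⟩ := (himg _ (hd a) (hp a)).resolve_left (by push Not; exact ha)
    obtain ⟨y, hy⟩ := (himg _ (hd b) (hp b)).resolve_right (by push Not; exact hb)
    have hab := himg _ (hd (a + b)) (hp (a + b))
    rw [hv, map_mul, hx, hy] at hab
    rcases hab with ⟨s, hs⟩ | ⟨s, hs⟩
    · have := congrFun (congrFun (congrArg Subtype.val hs) 1) 0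
      rw [val_mul'] at this
      simp [uu, ll, Matrix.mul_apply, Fin.sum_univ_two] at this
      rw [this, ll_zero] at hx
      exact ha 0 (hx.trans uu_zero.symm)
    · have := congrFun (congrFun (congrArg Subtype.val hs) 0) 1
      rw [val_mul'] at this
      simp [uu, ll, Matrix.mul_apply, Fin.sum_univ_two] at this
      rw [this, uu_zero] at hy
      exact hb 0 (hy.trans ll_zero.symm)
  have hU := side uu uu_add delta_uu hpu
  have hL := side ll ll_add delta_ll hpl
  have key : ∀ β : SpecialLinearGroup (Fin 2) F ≃* SpecialLinearGroup (Fin 2) F,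
      (∀ t, ∃ s, β (uu t) = uu s) → (∀ t, ∃ s, β (ll t) = ll s) →
      ∃ (σ : F ≃+* F) (c : Fˣ), ∀ t, β (uu t) = uu ((c : F) * σ t) ∧ β (ll t) = ll (σ t / (c : F)) := by
    intro β hu hl
    choose f hf using hu
    choose g hg using hl
    have fadd : ∀ a b, f (a + b) = f a + f b := fun a b => uu_inj (by
      rw [uu_add (f a), ← hf, ← hf, ← hf, uu_add, map_mul])
    have f0 : f 0 = 0 := by have := fadd 0 0; rw [add_zero] at this; linear_combination (-1 : F) * this
    have finj : Function.Injective f := fun a b h =>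
      uu_inj (β.injective (by rw [hf, hf, h]))
    have gadd : ∀ a b, g (a + b) = g a + g b := fun a b => ll_inj (by
      rw [ll_add (g a), ← hg, ← hg, ← hg, ll_add, map_mul])
    have g0 : g 0 = 0 := by have := gadd 0 0; rw [add_zero] at this; linear_combination (-1 : F) * this
    have gneg : ∀ a, g (-a) = -g a := fun a => by
      have := gadd a (-a); rw [add_neg_cancel, g0] at this; linear_combination (-1 : F) * this
    have hinv : ∀ t : F, t ≠ 0 → f t * g t⁻¹ = 1 := by
      intro t ht
      set m := uu t * ll (-t⁻¹) * uu t with hm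
      have hsq : (m * m).1 = -1 := by
        rw [hm]
        simp only [val_mul']
        ext i j
        fin_cases i <;> fin_cases j <;> simp [uu, ll, Matrix.mul_apply, Fin.sum_univ_two] <;> field_simp <;> ring
      have himage : (β (m * m)).1 = -1 := by
        refine sq_eq_one h2 ?_ ?_
        · rw [← map_mul, show m * m * (m * m) = 1 by
            refine Subtype.ext ?_
            rw [val_mul', hsq]; simp, map_one]
        · intro h1
          rw [MulEquiv.map_eq_one_iff] at h1
          rw [h1, val_one'] at hsq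
          have := congrFun (congrFun hsq 0) 0
          simp at this
          exact h2 (by linear_combination this)
      have e01 := congrFun (congrFun himage 1) 0
      rw [map_mul, hm, map_mul, map_mul, hf, hg, gneg] at e01
      simp only [val_mul'] at e01
      simp [uu, ll, Matrix.mul_apply, Fin.sum_univ_two] at e01
      have hne : g t⁻¹ ≠ 0 := by
        intro h0
        exact inv_ne_zero ht (ll_inj (β.injective (by rw [hg, hg, h0, g0])))
      have : (2 : F) * g t⁻¹ * (f t * g t⁻¹ - 1) = 0 := by linear_combination e01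
      exact sub_eq_zero.mp ((mul_eq_zero.mp this).resolve_left (mul_ne_zero h2 hne))
    have f1 : f 1 ≠ 0 := fun h => one_ne_zero (finj (h.trans f0.symm))
    have hconj : ∀ t s : F, t ≠ 0 → g (s / t ^ 2) = f s / f t ^ 2 := by
      intro t s ht
      have hft : f t ≠ 0 := fun h => ht (finj (h.trans f0.symm))
      have e : uu t * ll (-t⁻¹) * uu t * uu s = ll (-(s / t ^ 2)) * (uu t * ll (-t⁻¹) * uu t) := by
        refine Subtype.ext ?_
        simp only [val_mul']
        ext i j
        fin_cases i <;> fin_cases j <;> simp [uu, ll, Matrix.mul_apply, Fin.sum_univ_two] <;> field_simp <;> (try ring_nf) <;> simp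
      have e2 := congrArg β e
      have hgt : g t⁻¹ = (f t)⁻¹ := eq_inv_of_mul_eq_one_right (hinv t ht)
      simp only [map_mul, hf, hg, gneg, hgt] at e2
      have := congrFun (congrFun (congrArg Subtype.val e2) 1) 1
      simp only [val_mul'] at this
      simp [uu, ll, Matrix.mul_apply, Fin.sum_univ_two] at this
      field_simp at this ⊢
      linear_combination -this
    have hgf : ∀ s, g s = f s / f 1 ^ 2 := fun s => by
      have := hconj 1 s one_ne_zero; rwa [one_pow, div_one] at this
    set φ : F → F := fun s => f s / f 1 with hφ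
    have φinv : ∀ t, t ≠ 0 → φ t⁻¹ = (φ t)⁻¹ := by
      intro t ht
      have h := hinv t ht
      rw [hgf] at h
      simp only [hφ]
      rw [inv_div, eq_div_iff (fun h0 => ht (finj (h0.trans f0.symm)))]
      field_simp at h ⊢
      linear_combination h
    have φadd : ∀ a b, φ (a + b) = φ a + φ b := fun a b => by simp only [hφ, fadd, add_div]
    have φsq : ∀ t, φ (t * t) = φ t * φ t := by
      intro t
      by_cases ht : t = 0
      · simp [ht, hφ, f0]
      have := hconj t⁻¹ 1 (inv_ne_zero ht)
      rw [hgf, one_div, inv_pow, inv_inv, sq t] at this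
      have hi := φinv t ht
      simp only [hφ] at hi ⊢
      have e : f t⁻¹ = f 1 / (f t / f 1) := by
        rw [div_eq_iff f1] at hi; rw [hi]; ring
      rw [e] at this
      have hft : f t ≠ 0 := fun h => ht (finj (h.trans f0.symm))
      field_simp at this ⊢
      linear_combination this
    have φmul : ∀ a b, φ (a * b) = φ a * φ b := fun a b => by
      have h := φsq (a + b)
      rw [show (a + b) * (a + b) = a * a + (a * b + a * b) + b * b by ring, φadd, φadd, φadd, φadd,
        φsq, φsq] at h
      have : (2 : F) * (φ (a * b) - φ a * φ b) = 0 := by linear_combination h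
      exact sub_eq_zero.mp ((mul_eq_zero.mp this).resolve_left h2)
    let σ0 : F →+* F :=
      { toFun := φ, map_one' := by simp [hφ, f1], map_mul' := φmul, map_zero' := by simp [hφ, f0],
        map_add' := φadd }
    refine ⟨RingEquiv.ofBijective σ0 (Finite.injective_iff_bijective.mp σ0.injective), Units.mk0 _ f1, fun t => ?_⟩
    constructor
    · rw [hf]; congr 1; show _ = f 1 * (f t / f 1); field_simp
    · rw [hg, hgf]; congr 1; show _ = f t / f 1 / f 1; field_simp
  rcases hU with hU | hU <;> rcases hL with hL | hL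
  · exfalso
    obtain ⟨a, ha⟩ := hU 1
    obtain ⟨b, hb⟩ := hL 1
    have : α (uu 1 * ll 1) = α (ll 1 * uu 1) := by
      rw [map_mul, map_mul, ha, hb, ← uu_add, ← uu_add, add_comm]
    have := congrFun (congrFun (congrArg Subtype.val (α.injective this)) 0) 0
    simp only [val_mul'] at this
    simp [uu, ll, Matrix.mul_apply, Fin.sum_univ_two] at this
  · obtain ⟨σ, c, h⟩ := key α hU hL
    exact ⟨σ, c, Or.inl h⟩
  · obtain ⟨σ, c, h⟩ := key (α.trans theta)
      (fun t => by obtain ⟨s, hs⟩ := hU t; exact ⟨-s, by rw [MulEquiv.trans_apply, hs, theta_ll]⟩)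
      (fun t => by obtain ⟨s, hs⟩ := hL t; exact ⟨-s, by rw [MulEquiv.trans_apply, hs, theta_uu]⟩)
    exact ⟨σ, c, Or.inr h⟩
  · exfalso
    obtain ⟨a, ha⟩ := hU 1
    obtain ⟨b, hb⟩ := hL 1
    have : α (uu 1 * ll 1) = α (ll 1 * uu 1) := by
      rw [map_mul, map_mul, ha, hb, ← ll_add, ← ll_add, add_comm]
    have := congrFun (congrFun (congrArg Subtype.val (α.injective this)) 0) 0
    simp only [val_mul'] at this
    simp [uu, ll, Matrix.mul_apply, Fin.sum_univ_two] at this

end Odd

end CfsgLib.CTRec
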