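/-
Curtis–Tits recognition: normal form of an edge `⟨L_i, L_j⟩ ≅ (P)SL₃`.
-/
import Cfsg.Agent.Lib.CTRec.AutSL2

set_option autoImplicit false

namespace CfsgLib.CTRec

open Matrix

variable {F : Type*} [Field F]

/-- `-1` in `SL₂`. -/
def n2 : SpecialLinearGroup (Fin 2) F := ⟨!![-1, 0; 0, -1], by simp [Matrix.det_fin_two]⟩

/-- The upper block. -/
def blkA : SpecialLinearGroup (Fin 2) F →* SpecialLinearGroup (Fin 3) F where
  toFun g := ⟨!![g.1 0 0, g.1 0 1, 0; g.1 1 0, g.1 1 1, 0; 0, 0, 1], by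
    have := g.2; rw [Matrix.det_fin_two] at this
    rw [Matrix.det_fin_three]; simp; linear_combination this⟩
  map_one' := by refine Subtype.ext ?_; ext i j; fin_cases i <;> fin_cases j <;> simp
  map_mul' a b := by
    refine Subtype.ext ?_
    refine Eq.trans ?_ (val_mul' _ _).symm
    simp only [val_mul']
    ext i j
    fin_cases i <;> fin_cases j <;> simp [Matrix.mul_apply, Fin.sum_univ_two, Fin.sum_univ_three]

/-- The lower block. -/
def blkB : SpecialLinearGroup (Fin 2) F →* SpecialLinearGroup (Fin 3) F where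
  toFun g := ⟨!![1, 0, 0; 0, g.1 0 0, g.1 0 1; 0, g.1 1 0, g.1 1 1], by
    have := g.2; rw [Matrix.det_fin_two] at this
    rw [Matrix.det_fin_three]; simp; linear_combination this⟩
  map_one' := by refine Subtype.ext ?_; ext i j; fin_cases i <;> fin_cases j <;> simp
  map_mul' a b := by
    refine Subtype.ext ?_
    refine Eq.trans ?_ (val_mul' _ _).symm
    simp only [val_mul']
    ext i j
    fin_cases i <;> fin_cases j <;> simp [Matrix.mul_apply, Fin.sum_univ_two, Fin.sum_univ_three]

theorem blkA_val (g : SpecialLinearGroup (Fin 2) F) :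
    (blkA g).1 = !![g.1 0 0, g.1 0 1, 0; g.1 1 0, g.1 1 1, 0; 0, 0, 1] := rfl

theorem blkB_val (g : SpecialLinearGroup (Fin 2) F) :
    (blkB g).1 = !![1, 0, 0; 0, g.1 0 0, g.1 0 1; 0, g.1 1 0, g.1 1 1] := rfl

theorem blkA_n2 : (blkA (n2 (F := F))).1 = diagonal ![-1, -1, 1] := by
  rw [blkA_val]; ext i j; fin_cases i <;> fin_cases j <;> simp [n2]

theorem blkB_n2 : (blkB (n2 (F := F))).1 = diagonal ![1, -1, -1] := by
  rw [blkB_val]; ext i j; fin_cases i <;> fin_cases j <;> simp [n2]

theorem n2_sq : (n2 : SpecialLinearGroup (Fin 2) F) * n2 = 1 := by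
  refine Subtype.ext ?_
  rw [val_mul', val_one']
  ext i j; fin_cases i <;> fin_cases j <;> simp [n2, Matrix.mul_apply, Fin.sum_univ_two]

theorem n2_ne (h2 : (2 : F) ≠ 0) : (n2 : SpecialLinearGroup (Fin 2) F) ≠ 1 := by
  intro h
  have := congrFun (congrFun (congrArg Subtype.val h) 0) 0
  rw [val_one'] at this
  simp [n2] at this
  exact h2 (by linear_combination -this)

theorem eq_n2 (h2 : (2 : F) ≠ 0) {x : SpecialLinearGroup (Fin 2) F} (h : x * x = 1) (hx : x ≠ 1) :
    x = n2 := by
  refine Subtype.ext ?_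
  rw [sq_eq_one h2 h hx]
  ext i j; fin_cases i <;> fin_cases j <;> simp [n2]

theorem conj_za (m : SpecialLinearGroup (Fin 2) F) :
    blkA n2 * blkB m * blkA n2 = blkB (delta m) := by
  refine Subtype.ext ?_
  rw [val_mul', val_mul', blkA_n2, blkB_val, blkB_val, delta_val]
  ext i j; fin_cases i <;> fin_cases j <;> simp [Matrix.mul_apply, Fin.sum_univ_three, diagonal_apply]

theorem conj_zb (m : SpecialLinearGroup (Fin 2) F) :
    blkB n2 * blkA m * blkB n2 = blkA (delta m) := by
  refine Subtype.ext ?_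
  rw [val_mul', val_mul', blkB_n2, blkA_val, blkA_val, delta_val]
  ext i j; fin_cases i <;> fin_cases j <;> simp [Matrix.mul_apply, Fin.sum_univ_three, diagonal_apply]

theorem center_cube {k : SpecialLinearGroup (Fin 3) F}
    (hk : k ∈ Subgroup.center (SpecialLinearGroup (Fin 3) F)) : k ^ 3 = 1 := by
  obtain ⟨r, hr, hk⟩ := Matrix.SpecialLinearGroup.mem_center_iff.mp hk
  refine Subtype.ext ?_
  rw [show (k ^ 3).1 = k.1 ^ 3 from Matrix.SpecialLinearGroup.coe_pow k 3, val_one', ← hk, ← map_pow]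
  simp only [Fintype.card_fin] at hr
  rw [hr, map_one]

theorem center_sq {k : SpecialLinearGroup (Fin 3) F}
    (hk : k ∈ Subgroup.center (SpecialLinearGroup (Fin 3) F)) (h : k * k = 1) : k = 1 := by
  have := center_cube hk
  rw [pow_succ, pow_two, h, one_mul] at this
  exact this

/-- The trace of a non-trivial involution of `SL₃`. -/
theorem trace_invol {a : SpecialLinearGroup (Fin 3) F} (h : a * a = 1) (ha : a ≠ 1) :
    a.1.trace = -1 := by
  have e : a.1.adjugate = a.1 := by rw [← val_inv', inv_eq_of_mul_eq_one_right h]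
  have hm : a.1 * a.1 = 1 := by rw [← val_mul', h, val_one']
  have ch : a.1.adjugate = a.1 * a.1 - a.1.trace • a.1 + a.1.adjugate.trace • (1 : Matrix (Fin 3) (Fin 3) F) := by
    rw [Matrix.adjugate_fin_three]
    ext i j
    fin_cases i <;> fin_cases j <;>
      simp [Matrix.trace, Fin.sum_univ_three, Matrix.mul_apply] <;> ring
  rw [e, hm] at ch
  have h0 : (1 + a.1.trace) • (a.1 - 1) = 0 := by
    conv_rhs => rw [← sub_self a.1]; arg 2; rw [ch]
    rw [add_smul, one_smul, smul_sub]
    abel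
  rcases smul_eq_zero.mp h0 with h1 | h1
  · linear_combination h1
  · exact absurd (Subtype.ext (sub_eq_zero.mp h1)) ha

/-- Common eigenvectors give a frame for two commuting involutions. -/
theorem exists_frame (h2 : (2 : F) ≠ 0) {a b : SpecialLinearGroup (Fin 3) F} (ha : a * a = 1) (ha1 : a ≠ 1)
    (hb : b * b = 1) (hb1 : b ≠ 1) (hab : a * b = b * a) (hne : a ≠ b) :
    ∃ V : GL (Fin 3) F, a.1 * V.1 = V.1 * diagonal ![-1, -1, 1] ∧ b.1 * V.1 = V.1 * diagonal ![1, -1, -1] := by
  classical
  have hA : a.1 * a.1 = 1 := by rw [← val_mul', ha, val_one']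
  have hB : b.1 * b.1 = 1 := by rw [← val_mul', hb, val_one']
  have hAB : a.1 * b.1 = b.1 * a.1 := by rw [← val_mul', hab, val_mul']
  have tab : (a.1 * b.1).trace = -1 := by
    rw [← val_mul']
    refine trace_invol ?_ ?_
    · rw [show a * b * (a * b) = a * (b * a) * b by group, ← hab, show a * (a * b) * b = (a * a) * (b * b) by group,
        ha, hb, one_mul]
    · intro h
      exact hne (by rw [← mul_one a, ← hb, ← mul_assoc, h, one_mul])
  have ta := trace_invol ha ha1
  have tb := trace_invol hb hb1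
  have h4 : (4 : F) ≠ 0 := by
    intro h; exact h2 ((mul_self_eq_zero).mp (by linear_combination h))
  have getv : ∀ (σ τ : F), σ * σ = 1 → τ * τ = 1 → (3 : F) - σ - τ - σ * τ ≠ 0 →
      ∃ v : Fin 3 → F, v ≠ 0 ∧ a.1 *ᵥ v = σ • v ∧ b.1 *ᵥ v = τ • v := by
    intro σ τ hσ hτ hne
    set P := (1 + σ • a.1) * (1 + τ • b.1) with hP
    have htr : P.trace = 3 - σ - τ - σ * τ := by
      rw [hP]
      simp only [add_mul, mul_add, one_mul, mul_one, smul_mul_assoc, mul_smul_comm, Matrix.trace_add,
        Matrix.trace_smul, ta, tb, tab, Matrix.trace_one, Fintype.card_fin, smul_eq_mul]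
      push_cast; ring
    obtain ⟨k, hk⟩ : ∃ k, P *ᵥ Pi.single k 1 ≠ 0 := by
      by_contra hcon
      push Not at hcon
      refine hne ?_
      rw [← htr, Matrix.trace]
      refine Finset.sum_eq_zero fun i _ => ?_
      have := congrFun (hcon i) i
      simpa using this
    have eA : a.1 * P = σ • P := by
      rw [hP, ← mul_assoc, ← smul_mul_assoc]
      congr 1
      rw [mul_add, mul_smul_comm, hA, mul_one]
      rw [smul_add, smul_smul, hσ, one_smul, add_comm]
    have eB : b.1 * P = τ • P := by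
      have hc : b.1 * (1 + σ • a.1) = (1 + σ • a.1) * b.1 := by
        simp only [mul_add, add_mul, mul_one, one_mul, smul_mul_assoc, mul_smul_comm, hAB]
      rw [hP, ← mul_assoc, hc, mul_assoc, ← mul_smul_comm]
      congr 1
      rw [mul_add, mul_smul_comm, hB, mul_one]
      rw [smul_add, smul_smul, hτ, one_smul, add_comm]
    exact ⟨_, hk, by rw [mulVec_mulVec, eA, smul_mulVec], by rw [mulVec_mulVec, eB, smul_mulVec]⟩
  obtain ⟨u, hu, ua, ub⟩ := getv (-1) 1 (by ring) (by ring) (by ring_nf; exact h4)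
  obtain ⟨v, hv, va, vb⟩ := getv (-1) (-1) (by ring) (by ring) (by ring_nf; exact h4)
  obtain ⟨w, hw, wa, wb⟩ := getv 1 (-1) (by ring) (by ring) (by ring_nf; exact h4)
  set M : Matrix (Fin 3) (Fin 3) F := fun i j => ![u i, v i, w i] j with hM
  have hcomb : ∀ c : Fin 3 → F, M *ᵥ c = c 0 • u + c 1 • v + c 2 • w := by
    intro c; funext i
    simp [hM, Matrix.mulVec, dotProduct, Fin.sum_univ_three, mul_comm]
  have hdet : M.det ≠ 0 := by
    intro h0
    obtain ⟨c, hc, hc0⟩ := Matrix.exists_mulVec_eq_zero_iff.mpr h0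
    rw [hcomb] at hc0
    have e1 := congrArg (fun x => a.1 *ᵥ x) hc0
    have e2 := congrArg (fun x => b.1 *ᵥ x) hc0
    simp only [mulVec_add, mulVec_smul, mulVec_zero, ua, va, wa, ub, vb, wb] at e1 e2
    have hcu : ((2 : F) * c 0) • u = 0 := by
      calc ((2 : F) * c 0) • u = (c 0 • u + c 1 • v + c 2 • w) +
          (c 0 • (1 : F) • u + c 1 • (-1 : F) • v + c 2 • (-1 : F) • w) := by module
        _ = 0 := by rw [hc0, e2, add_zero]
    have hcw : ((2 : F) * c 2) • w = 0 := by
      calc ((2 : F) * c 2) • w = (c 0 • u + c 1 • v + c 2 • w) +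
          (c 0 • (-1 : F) • u + c 1 • (-1 : F) • v + c 2 • (1 : F) • w) := by module
        _ = 0 := by rw [hc0, e1, add_zero]
    have c0 : c 0 = 0 := (mul_eq_zero.mp ((smul_eq_zero.mp hcu).resolve_right hu)).resolve_left h2
    have c2 : c 2 = 0 := (mul_eq_zero.mp ((smul_eq_zero.mp hcw).resolve_right hw)).resolve_left h2
    rw [c0, c2, zero_smul, zero_smul, zero_add, add_zero] at hc0
    have c1 : c 1 = 0 := (smul_eq_zero.mp hc0).resolve_right hv
    exact hc (funext fun i => by fin_cases i <;> simp [c0, c1, c2])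
  refine ⟨Matrix.GeneralLinearGroup.mkOfDetNeZero M hdet, ?_, ?_⟩
  · show a.1 * M = M * _
    ext i j
    rw [Matrix.mul_diagonal]
    fin_cases j
    · exact (congrFun ua i).trans (by simp [hM])
    · exact (congrFun va i).trans (by simp [hM])
    · exact (congrFun wa i).trans (by simp [hM])
  · show b.1 * M = M * _
    ext i j
    rw [Matrix.mul_diagonal]
    fin_cases j
    · exact (congrFun ub i).trans (by simp [hM])
    · exact (congrFun vb i).trans (by simp [hM])
    · exact (congrFun wb i).trans (by simp [hM])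

/-- Conjugation of `SL₃` by an element of `GL₃`. -/
def conjGL (V : GL (Fin 3) F) : SpecialLinearGroup (Fin 3) F →* SpecialLinearGroup (Fin 3) F where
  toFun g := ⟨V.1 * g.1 * (V⁻¹).1, by rw [Matrix.det_units_conj, g.2]⟩
  map_one' := by refine Subtype.ext ?_; show V.1 * 1 * (V⁻¹).1 = 1; simp
  map_mul' x y := by
    refine Subtype.ext ?_
    show V.1 * (x.1 * y.1) * (V⁻¹).1 = (V.1 * x.1 * (V⁻¹).1) * (V.1 * y.1 * (V⁻¹).1)
    simp [Matrix.mul_assoc]

theorem conjGL_inj (V : GL (Fin 3) F) : Function.Injective (conjGL V) := by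
  intro x y h
  have := congrArg Subtype.val h
  change V.1 * x.1 * (V⁻¹).1 = V.1 * y.1 * (V⁻¹).1 at this
  exact Subtype.ext (V.isUnit.mul_left_cancel (V⁻¹.isUnit.mul_right_cancel this))

variable [Fintype F]

/-- Elements of order dividing `p` centralizing the standard involution lie in the block. -/
theorem mem_blkA (h2 : (2 : F) ≠ 0) {p : ℕ} [Fact p.Prime] [CharP F p] {x : SpecialLinearGroup (Fin 3) F}
    (hc : x * blkA n2 = blkA n2 * x) (hp : x ^ p = 1) : x ∈ (blkA (F := F)).range := by
  have e := congrArg Subtype.val hc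
  rw [val_mul', val_mul', blkA_n2] at e
  have h (i j : Fin 3) := congrFun (congrFun e i) j
  have k02 : x.1 0 2 = 0 := by
    have := h 0 2; simp [Matrix.mul_diagonal, Matrix.diagonal_mul] at this
    exact (mul_eq_zero.mp (show (2 : F) * x.1 0 2 = 0 by linear_combination this)).resolve_left h2
  have k12 : x.1 1 2 = 0 := by
    have := h 1 2; simp [Matrix.mul_diagonal, Matrix.diagonal_mul] at this
    exact (mul_eq_zero.mp (show (2 : F) * x.1 1 2 = 0 by linear_combination this)).resolve_left h2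
  have k20 : x.1 2 0 = 0 := by
    have := h 2 0; simp [Matrix.mul_diagonal, Matrix.diagonal_mul] at this
    exact (mul_eq_zero.mp (show (2 : F) * x.1 2 0 = 0 by linear_combination -this)).resolve_left h2
  have k21 : x.1 2 1 = 0 := by
    have := h 2 1; simp [Matrix.mul_diagonal, Matrix.diagonal_mul] at this
    exact (mul_eq_zero.mp (show (2 : F) * x.1 2 1 = 0 by linear_combination -this)).resolve_left h2
  have hpow : ∀ n : ℕ, (x.1 ^ n) 2 2 = x.1 2 2 ^ n ∧ (x.1 ^ n) 2 0 = 0 ∧ (x.1 ^ n) 2 1 = 0 := by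
    intro n
    induction n with
    | zero => simp
    | succ k ih =>
      obtain ⟨a, b, c⟩ := ih
      simp [pow_succ, Matrix.mul_apply, Fin.sum_univ_three, a, b, c, k02, k12, k20, k21]
  have h22 : x.1 2 2 = 1 := by
    have := (hpow p).1
    rw [← show (x ^ p).1 = x.1 ^ p from Matrix.SpecialLinearGroup.coe_pow x p, hp, val_one'] at this
    have : (x.1 2 2 - 1) ^ p = 0 := by
      rw [sub_pow_char, one_pow, ← this]; simp
    exact sub_eq_zero.mp (eq_zero_of_pow_eq_zero this)
  have hdet := x.2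
  rw [Matrix.det_fin_three, k02, k12, k20, k21, h22] at hdet
  refine ⟨⟨!![x.1 0 0, x.1 0 1; x.1 1 0, x.1 1 1], by rw [Matrix.det_fin_two]; simp; linear_combination hdet⟩,
    Subtype.ext ?_⟩
  refine (blkA_val _).trans ?_
  ext i j; fin_cases i <;> fin_cases j <;> simp [k02, k12, k20, k21, h22]

theorem mem_blkB (h2 : (2 : F) ≠ 0) {p : ℕ} [Fact p.Prime] [CharP F p] {x : SpecialLinearGroup (Fin 3) F}
    (hc : x * blkB n2 = blkB n2 * x) (hp : x ^ p = 1) : x ∈ (blkB (F := F)).range := by
  have e := congrArg Subtype.val hc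
  rw [val_mul', val_mul', blkB_n2] at e
  have h (i j : Fin 3) := congrFun (congrFun e i) j
  have k01 : x.1 0 1 = 0 := by
    have := h 0 1; simp [Matrix.mul_diagonal, Matrix.diagonal_mul] at this
    exact (mul_eq_zero.mp (show (2 : F) * x.1 0 1 = 0 by linear_combination -this)).resolve_left h2
  have k02 : x.1 0 2 = 0 := by
    have := h 0 2; simp [Matrix.mul_diagonal, Matrix.diagonal_mul] at this
    exact (mul_eq_zero.mp (show (2 : F) * x.1 0 2 = 0 by linear_combination -this)).resolve_left h2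
  have k10 : x.1 1 0 = 0 := by
    have := h 1 0; simp [Matrix.mul_diagonal, Matrix.diagonal_mul] at this
    exact (mul_eq_zero.mp (show (2 : F) * x.1 1 0 = 0 by linear_combination this)).resolve_left h2
  have k20 : x.1 2 0 = 0 := by
    have := h 2 0; simp [Matrix.mul_diagonal, Matrix.diagonal_mul] at this
    exact (mul_eq_zero.mp (show (2 : F) * x.1 2 0 = 0 by linear_combination this)).resolve_left h2
  have hpow : ∀ n : ℕ, (x.1 ^ n) 0 0 = x.1 0 0 ^ n ∧ (x.1 ^ n) 0 1 = 0 ∧ (x.1 ^ n) 0 2 = 0 := by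
    intro n
    induction n with
    | zero => simp
    | succ k ih =>
      obtain ⟨a, b, c⟩ := ih
      simp [pow_succ, Matrix.mul_apply, Fin.sum_univ_three, a, b, c, k01, k02, k10, k20]
  have h00 : x.1 0 0 = 1 := by
    have := (hpow p).1
    rw [← show (x ^ p).1 = x.1 ^ p from Matrix.SpecialLinearGroup.coe_pow x p, hp, val_one'] at this
    have : (x.1 0 0 - 1) ^ p = 0 := by
      rw [sub_pow_char, one_pow, ← this]; simp
    exact sub_eq_zero.mp (eq_zero_of_pow_eq_zero this)
  have hdet := x.2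
  rw [Matrix.det_fin_three, k01, k02, k10, k20, h00] at hdet
  refine ⟨⟨!![x.1 1 1, x.1 1 2; x.1 2 1, x.1 2 2], by rw [Matrix.det_fin_two]; simp; linear_combination hdet⟩,
    Subtype.ext ?_⟩
  refine (blkB_val _).trans ?_
  ext i j; fin_cases i <;> fin_cases j <;> simp [k01, k02, k10, k20, h00]

end CfsgLib.CTRec
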