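/-
Curtis–Tits recognition: compatible parametrisations of the fundamental `SL₂`'s along a tree.
-/
import Cfsg.Agent.Lib.CTRec.Frame

set_option autoImplicit false

namespace CfsgLib.CTRec

open Matrix

variable {F : Type*} [Field F] [Fintype F] {G : Type*} [Group G]

/-- `diag(c,1,1)`. -/
def dmat (c : Fˣ) : GL (Fin 3) F :=
  Matrix.GeneralLinearGroup.mkOfDetNeZero (diagonal ![(c : F), 1, 1]) (by
    rw [Matrix.det_diagonal, Fin.prod_univ_three]; simp [c.ne_zero])

theorem dmat_inv (c : Fˣ) : ((dmat c)⁻¹).1 = diagonal ![((c : F))⁻¹, 1, 1] := by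
  refine Units.inv_eq_of_mul_eq_one_right ?_
  show diagonal ![(c : F), 1, 1] * _ = 1
  rw [Matrix.diagonal_mul_diagonal, ← Matrix.diagonal_one]
  congr 1
  funext i; fin_cases i <;> simp [c.ne_zero]

/-- Inverse transpose on `SL₃`. -/
def theta3 : SpecialLinearGroup (Fin 3) F →* SpecialLinearGroup (Fin 3) F where
  toFun g := ⟨(g⁻¹).1ᵀ, by rw [Matrix.det_transpose, (g⁻¹).2]⟩
  map_one' := by refine Subtype.ext ?_; simp [val_one']
  map_mul' x y := by
    refine Subtype.ext ?_
    refine Eq.trans ?_ (val_mul' _ _).symm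
    simp only [_root_.mul_inv_rev, val_mul', Matrix.transpose_mul]

theorem theta3_inj : Function.Injective (theta3 (F := F)) := by
  intro x y h
  exact inv_injective (Subtype.ext (Matrix.transpose_injective (congrArg Subtype.val h)))

theorem theta3_blkA (m : SpecialLinearGroup (Fin 2) F) : theta3 (blkA m) = blkA (theta m) := by
  refine Subtype.ext ?_
  show ((blkA m)⁻¹).1ᵀ = _
  rw [← map_inv, blkA_val, blkA_val, theta_val, neg_inv_symm]
  ext i j; fin_cases i <;> fin_cases j <;> simp

theorem theta3_blkB (m : SpecialLinearGroup (Fin 2) F) : theta3 (blkB m) = blkB (theta m) := by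
  refine Subtype.ext ?_
  show ((blkB m)⁻¹).1ᵀ = _
  rw [← map_inv, blkB_val, blkB_val, theta_val, neg_inv_symm]
  ext i j; fin_cases i <;> fin_cases j <;> simp

theorem theta_theta (m : SpecialLinearGroup (Fin 2) F) : theta (theta m) = m := theta.left_inv m

/-- Extension of a monomial automorphism of the upper block to `SL₃`. -/
theorem exists_extend (hF : Odd (Fintype.card F))
    (α : SpecialLinearGroup (Fin 2) F ≃* SpecialLinearGroup (Fin 2) F)
    (hα : ∀ g, α (delta g) = delta (α g)) :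
    ∃ (Θ : SpecialLinearGroup (Fin 3) F →* SpecialLinearGroup (Fin 3) F)
      (β : SpecialLinearGroup (Fin 2) F ≃* SpecialLinearGroup (Fin 2) F),
      (∀ m, Θ (blkA m) = blkA (α m)) ∧ ∀ m, Θ (blkB m) = blkB (β m) := by
  obtain ⟨σ, c, h⟩ := aut_delta hF α hα
  let Θ0 : SpecialLinearGroup (Fin 3) F →* SpecialLinearGroup (Fin 3) F :=
    (conjGL (dmat c)).comp (Matrix.SpecialLinearGroup.map σ.toRingHom)
  let mσ : SpecialLinearGroup (Fin 2) F →* SpecialLinearGroup (Fin 2) F :=
    Matrix.SpecialLinearGroup.map σ.toRingHom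
  have minj : Function.Injective mσ := fun x y e => Subtype.ext (Matrix.ext fun i j =>
    σ.injective (congrFun (congrFun (congrArg Subtype.val e) i) j))
  let β0 : SpecialLinearGroup (Fin 2) F ≃* SpecialLinearGroup (Fin 2) F :=
    MulEquiv.ofBijective mσ (Finite.injective_iff_bijective.mp minj)
  have hv : ∀ g, (Θ0 g).1 = diagonal ![(c : F), 1, 1] * g.1.map σ * diagonal ![((c : F))⁻¹, 1, 1] := by
    intro g
    show (dmat c).1 * _ * ((dmat c)⁻¹).1 = _
    rw [dmat_inv]; rfl
  have hB : ∀ m, Θ0 (blkB m) = blkB (β0 m) := by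
    intro m
    refine Subtype.ext ?_
    rw [hv, blkB_val, blkB_val]
    show _ = !![1, 0, 0; 0, σ (m.1 0 0), σ (m.1 0 1); 0, σ (m.1 1 0), σ (m.1 1 1)]
    ext i j; fin_cases i <;> fin_cases j <;> simp [Matrix.mul_diagonal, Matrix.diagonal_mul]
  have hAu : ∀ t, Θ0 (blkA (uu t)) = blkA (uu ((c : F) * σ t)) := by
    intro t
    refine Subtype.ext ?_
    rw [hv, blkA_val, blkA_val]
    ext i j; fin_cases i <;> fin_cases j <;>
      simp [uu, Matrix.mul_diagonal, Matrix.diagonal_mul, c.ne_zero]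
  have hAl : ∀ t, Θ0 (blkA (ll t)) = blkA (ll (σ t / (c : F))) := by
    intro t
    refine Subtype.ext ?_
    rw [hv, blkA_val, blkA_val]
    ext i j; fin_cases i <;> fin_cases j <;>
      simp [ll, Matrix.mul_diagonal, Matrix.diagonal_mul, c.ne_zero, div_eq_mul_inv]
  rcases h with h | h
  · refine ⟨Θ0, β0, fun m => ?_, hB⟩
    have e : Θ0.comp blkA = blkA.comp α.toMonoidHom :=
      ext_gen (fun t => (hAu t).trans (congrArg blkA (h t).1.symm))
        (fun t => (hAl t).trans (congrArg blkA (h t).2.symm))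
    exact DFunLike.congr_fun e m
  · refine ⟨theta3.comp Θ0, β0.trans theta, fun m => ?_, fun m => ?_⟩
    · have e : (theta3.comp Θ0).comp blkA = blkA.comp α.toMonoidHom :=
        ext_gen
          (fun t => by
            show theta3 (Θ0 (blkA (uu t))) = blkA (α (uu t))
            rw [hAu, theta3_blkA, ← (h t).1, theta_theta])
          (fun t => by
            show theta3 (Θ0 (blkA (ll t))) = blkA (α (ll t))
            rw [hAl, theta3_blkA, ← (h t).2, theta_theta])
      exact DFunLike.congr_fun e m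
    · show theta3 (Θ0 (blkB m)) = _
      rw [hB, theta3_blkB]; rfl

/-- The hypotheses of the recognition statements. -/
structure Setup (ι F : Type*) [Field F] (G : Type*) [Group G] where
  L : ι → Subgroup G
  e : ∀ i, SpecialLinearGroup (Fin 2) F ≃* L i
  z : ι → G
  Adj : ι → ι → Prop
  hz : ∀ i, z i ∈ L i ∧ z i ∈ Subgroup.centralizer ((L i : Subgroup G) : Set G) ∧ z i ≠ 1 ∧ z i * z i = 1
  adj_ne : ∀ i j, Adj i j → i ≠ j
  adj_symm : ∀ i j, Adj i j → Adj j i
  h1 : ∀ i j, i ≠ j → Adj i j →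
    Nonempty (↥(L i ⊔ L j) ≃* SpecialLinearGroup (Fin 3) F) ∨
      Nonempty (↥(L i ⊔ L j) ≃* Matrix.ProjectiveSpecialLinearGroup (Fin 3) F)
  h1' : ∀ i j, i ≠ j → ¬ Adj i j → ∀ a ∈ L i, ∀ b ∈ L j, a * b = b * a
  h2 : ∀ i j, z i * z j = z j * z i
  h3 : ∀ i, ((Subgroup.closure (Set.range z) ⊓ Subgroup.centralizer ((L i : Subgroup G) : Set G)).subgroupOf
    (Subgroup.closure (Set.range z))).index ≤ 2

theorem eq_one_of_sq_cube {M : Type*} [Group M] {k : M} (h2 : k * k = 1) (h3 : k ^ 3 = 1) : k = 1 := by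
  rw [pow_succ, pow_two, h2, one_mul] at h3; exact h3

theorem mul_mem_of_index_le_two {M : Type*} [Group M] (K : Subgroup M) [Finite M] (h : K.index ≤ 2)
    {a b : M} (ha : a ∉ K) (hb : b ∉ K) : a * b ∈ K := by
  have h0 : K.index ≠ 0 := Subgroup.index_ne_zero_of_finite
  have h1 : K.index ≠ 1 := fun e => ha (by rw [Subgroup.index_eq_one.mp e]; trivial)
  have h2 : K.index = 2 := by omega
  rw [Subgroup.mul_mem_iff_of_index_two h2]
  exact iff_of_false ha hb

namespace Setup

variable {ι : Type*} (S : Setup ι F G) (hF : Odd (Fintype.card F))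
include hF

theorem z_eq (i : ι) {φ : SpecialLinearGroup (Fin 2) F →* G} (hi : Function.Injective φ)
    (hr : φ.range = S.L i) : φ n2 = S.z i := by
  have h2 := two_ne_zero_of_odd hF
  obtain ⟨hmem, -, hne, hsq⟩ := S.hz i
  rw [← hr] at hmem
  obtain ⟨m, hm⟩ := hmem
  rw [← hm]
  congr 1
  symm
  exact eq_n2 h2 (hi (by rw [map_mul, map_one, hm, hsq])) (fun e => hne (by rw [← hm, e, map_one]))

/-- An edge in standard form. -/
theorem edge_rep {i j : ι} (hij : S.Adj i j) :
    ∃ π : SpecialLinearGroup (Fin 3) F →* G,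
      Function.Injective (π.comp blkA) ∧ (π.comp blkA).range = S.L i ∧
      Function.Injective (π.comp blkB) ∧ (π.comp blkB).range = S.L j ∧
      π (blkA n2) = S.z i ∧ π (blkB n2) = S.z j := by
  classical
  have h2 := two_ne_zero_of_odd hF
  obtain ⟨p, hpF⟩ := CharP.exists F
  haveI : Fact p.Prime := ⟨CharP.char_is_prime F p⟩
  set X := S.L i ⊔ S.L j with hX
  obtain ⟨π, hπX, hker⟩ : ∃ π : SpecialLinearGroup (Fin 3) F →* G, π.range = X ∧
      π.ker ≤ Subgroup.center (SpecialLinearGroup (Fin 3) F) := by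
    rcases S.h1 i j (S.adj_ne i j hij) hij with h | h <;> obtain ⟨e⟩ := h
    · refine ⟨X.subtype.comp e.symm.toMonoidHom, ?_, ?_⟩
      · rw [MonoidHom.range_comp, MonoidHom.range_eq_top.mpr e.symm.surjective, ← MonoidHom.range_eq_map,
          Subgroup.range_subtype]
      · intro x hx
        have hx' : e.symm x = 1 := Subtype.ext hx
        rw [MulEquiv.map_eq_one_iff] at hx'
        rw [hx']; exact one_mem _
    · refine ⟨(X.subtype.comp e.symm.toMonoidHom).comp (QuotientGroup.mk' _), ?_, ?_⟩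
      · rw [MonoidHom.range_comp, MonoidHom.range_eq_top.mpr (QuotientGroup.mk'_surjective _),
          ← MonoidHom.range_eq_map, MonoidHom.range_comp, MonoidHom.range_eq_top.mpr e.symm.surjective,
          ← MonoidHom.range_eq_map, Subgroup.range_subtype]
      · intro x hx
        have hx' : e.symm (QuotientGroup.mk' _ x) = 1 := Subtype.ext hx
        rw [MulEquiv.map_eq_one_iff] at hx'
        exact (QuotientGroup.eq_one_iff x).mp hx'
  have hkc : ∀ k, π k = 1 → k ^ 3 = 1 ∧ ∀ y, y * k = k * y := fun k hk =>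
    ⟨center_cube (hker hk), fun y => Subgroup.mem_center_iff.mp (hker hk) y⟩
  -- lifts
  have lift2 : ∀ g ∈ X, g * g = 1 → g ≠ 1 → ∃ a, π a = g ∧ a * a = 1 ∧ a ≠ 1 := by
    intro g hg hgg hg1
    rw [← hπX] at hg
    obtain ⟨y, rfl⟩ := hg
    obtain ⟨hk3, hkc'⟩ := hkc (y * y) (by rw [map_mul, hgg])
    refine ⟨y * (y * y), ?_, ?_, fun e => hg1 (?_)⟩
    · rw [map_mul, map_mul, hgg, mul_one]
    · rw [show y * (y * y) * (y * (y * y)) = (y * y) * (y * y) * (y * y) by group]
      rw [pow_succ, pow_two] at hk3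
      exact hk3
    · have := congrArg π e
      rwa [map_mul, map_mul, hgg, mul_one, map_one] at this
  have liftc : ∀ a x, a * a = 1 → π a * π x = π x * π a → a * x = x * a := by
    intro a x ha h
    obtain ⟨hk3, hkc'⟩ := hkc (a * x * a⁻¹ * x⁻¹) (by
      rw [map_mul, map_mul, map_mul, map_inv, map_inv, h]; group)
    set k := a * x * a⁻¹ * x⁻¹ with hk
    have e1 : a * x = k * (x * a) := by rw [hk]; group
    have : k * k = 1 := by
      have : x = k * k * x := by
        calc x = (a * a) * x := by rw [ha, one_mul]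
          _ = a * (a * x) := mul_assoc _ _ _
          _ = a * (k * (x * a)) := by rw [e1]
          _ = k * (a * x) * a := by rw [← mul_assoc a, hkc']; group
          _ = k * (k * (x * a)) * a := by rw [e1]
          _ = k * k * x * (a * a) := by group
          _ = k * k * x := by rw [ha, mul_one]
      exact mul_right_cancel (b := x) (by rw [one_mul]; exact this.symm)
    rw [e1, eq_one_of_sq_cube this hk3, one_mul]
  have liftp : ∀ g ∈ X, g ^ p = 1 → ∃ x, π x = g ∧ x ^ p = 1 := by
    intro g hg hgp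
    rw [← hπX] at hg
    obtain ⟨y, rfl⟩ := hg
    have hk : π (y ^ p) = 1 := by rw [map_pow, hgp]
    obtain ⟨hk3, hkc'⟩ := hkc _ hk
    by_cases hp3 : p = 3
    · subst hp3
      refine ⟨y, rfl, ?_⟩
      obtain ⟨r, hr, e⟩ := Matrix.SpecialLinearGroup.mem_center_iff.mp (hker hk)
      have : r = 1 := by
        simp only [Fintype.card_fin] at hr
        have : (r - 1) ^ 3 = 0 := by rw [sub_pow_char, one_pow, hr, sub_self]
        exact sub_eq_zero.mp (eq_zero_of_pow_eq_zero this)
      refine Subtype.ext ?_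
      rw [← e, this, map_one, val_one']
    · refine ⟨y * (y ^ p) ^ (2 * p), by rw [map_mul, map_pow, hk, one_pow, mul_one], ?_⟩
      rw [Commute.mul_pow (hkc' y |> fun h => (show Commute y (y ^ p) from h).pow_right _), ← pow_mul,
        ← pow_succ']
      refine orderOf_dvd_iff_pow_eq_one.mp ((orderOf_dvd_of_pow_eq_one hk3).trans ?_)
      have : p % 3 ≠ 0 := fun e => hp3 ((Nat.prime_dvd_prime_iff_eq Nat.prime_three Fact.out).mp
        (Nat.dvd_of_mod_eq_zero e)).symm
      rw [Nat.dvd_iff_mod_eq_zero]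
      have h' : p % 3 = 1 ∨ p % 3 = 2 := by omega
      rcases h' with h' | h' <;> simp [Nat.add_mod, Nat.mul_mod, h']
  have hiX : S.L i ≤ X := le_sup_left
  have hjX : S.L j ≤ X := le_sup_right
  obtain ⟨a, haz, haa, ha1⟩ := lift2 _ (hiX (S.hz i).1) (S.hz i).2.2.2 (S.hz i).2.2.1
  obtain ⟨b, hbz, hbb, hb1⟩ := lift2 _ (hjX (S.hz j).1) (S.hz j).2.2.2 (S.hz j).2.2.1
  have hab : a * b = b * a := liftc a b haa (by rw [haz, hbz]; exact S.h2 i j)
  have hne : a ≠ b := by
    intro e
    have hzz : S.z i = S.z j := by rw [← haz, ← hbz, e]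
    have hc : ∀ g ∈ X, g * S.z i = S.z i * g := by
      intro g hg
      have : X ≤ Subgroup.centralizer {S.z i} := by
        refine sup_le (fun x hx => ?_) (fun x hx => ?_)
        · rw [Subgroup.mem_centralizer_singleton_iff]
          exact (Subgroup.mem_centralizer_iff.mp (S.hz i).2.1 x hx)
        · rw [Subgroup.mem_centralizer_singleton_iff, hzz]
          exact (Subgroup.mem_centralizer_iff.mp (S.hz j).2.1 x hx)
      exact Subgroup.mem_centralizer_singleton_iff.mp (this hg)
    have hac : a ∈ Subgroup.center (SpecialLinearGroup (Fin 3) F) := Subgroup.mem_center_iff.mpr fun x =>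
      (liftc a x haa (by rw [haz]; exact (hc (π x) (hπX ▸ ⟨x, rfl⟩)).symm)).symm
    exact ha1 (center_sq hac haa)
  obtain ⟨V, hVa, hVb⟩ := exists_frame h2 haa ha1 hbb hb1 hab hne
  have hca : conjGL V (blkA n2) = a := Subtype.ext (by
    show V.1 * (blkA n2).1 * (V⁻¹).1 = a.1
    rw [blkA_n2, ← hVa, Units.mul_inv_cancel_right])
  have hcb : conjGL V (blkB n2) = b := Subtype.ext (by
    show V.1 * (blkB n2).1 * (V⁻¹).1 = b.1
    rw [blkB_n2, ← hVb, Units.mul_inv_cancel_right])
  have hsurj : Function.Surjective (conjGL V) := Finite.surjective_of_injective (conjGL_inj V)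
  set π' := π.comp (conjGL V) with hπ'
  have hker' : ∀ x, π' x = 1 → ∃ r : F, r ^ 3 = 1 ∧ x.1 = Matrix.scalar (Fin 3) r := by
    intro x hx
    have hc : conjGL V x ∈ Subgroup.center (SpecialLinearGroup (Fin 3) F) := hker hx
    have hxc : x ∈ Subgroup.center (SpecialLinearGroup (Fin 3) F) := Subgroup.mem_center_iff.mpr fun y =>
      conjGL_inj V (by rw [map_mul, map_mul]; exact Subgroup.mem_center_iff.mp hc _)
    obtain ⟨r, hr, e⟩ := Matrix.SpecialLinearGroup.mem_center_iff.mp hxc
    exact ⟨r, by simpa using hr, e.symm⟩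
  have injA : Function.Injective (π'.comp blkA) := by
    rw [injective_iff_map_eq_one]
    intro m hm
    obtain ⟨r, -, e⟩ := hker' _ hm
    rw [blkA_val] at e
    have e22 := congrFun (congrFun e 2) 2
    have e00 := congrFun (congrFun e 0) 0
    have e01 := congrFun (congrFun e 0) 1
    have e10 := congrFun (congrFun e 1) 0
    have e11 := congrFun (congrFun e 1) 1
    simp at e22 e00 e01 e10 e11
    refine Subtype.ext ?_
    ext u v; fin_cases u <;> fin_cases v <;> simp [val_one', e00, e01, e10, e11, ← e22]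
  have injB : Function.Injective (π'.comp blkB) := by
    rw [injective_iff_map_eq_one]
    intro m hm
    obtain ⟨r, -, e⟩ := hker' _ hm
    rw [blkB_val] at e
    have e00 := congrFun (congrFun e 0) 0
    have e11 := congrFun (congrFun e 1) 1
    have e12 := congrFun (congrFun e 1) 2
    have e21 := congrFun (congrFun e 2) 1
    have e22 := congrFun (congrFun e 2) 2
    simp at e00 e11 e12 e21 e22
    refine Subtype.ext ?_
    ext u v; fin_cases u <;> fin_cases v <;> simp [val_one', e11, e12, e21, e22, ← e00]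
  have rangeEq : ∀ (blk : SpecialLinearGroup (Fin 2) F →* SpecialLinearGroup (Fin 3) F) (k : ι) (w : SpecialLinearGroup (Fin 3) F),
      S.L k ≤ X → w * w = 1 → π' w = S.z k →
      (∀ x, x * w = w * x → x ^ p = 1 → x ∈ blk.range) →
      Function.Injective (π'.comp blk) → (π'.comp blk).range = S.L k := by
    intro blk k w hkX hw hwz hmem hinj
    have hle : S.L k ≤ (π'.comp blk).range := by
      have hp1 : ∀ v : SpecialLinearGroup (Fin 2) F, v ^ p = 1 → ((S.e k v : S.L k) : G) ∈ (π'.comp blk).range := by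
        intro v hv
        have hg : ((S.e k v : S.L k) : G) ^ p = 1 := by
          rw [← Subgroup.coe_pow, ← map_pow, hv, map_one, Subgroup.coe_one]
        obtain ⟨x, hx, hxp⟩ := liftp _ (hkX (S.e k v).2) hg
        obtain ⟨x', rfl⟩ := hsurj x
        have hx'p : x' ^ p = 1 := conjGL_inj V (by rw [map_pow, hxp, map_one])
        have hcw : x' * w = w * x' := by
          refine (conjGL_inj V ?_).symm
          rw [map_mul, map_mul]
          refine liftc _ _ (by rw [← map_mul, hw, map_one]) ?_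
          have hwz' : π (conjGL V w) = S.z k := hwz
          rw [hwz', hx]
          exact (Subgroup.mem_centralizer_iff.mp (S.hz k).2.1 _ (S.e k v).2).symm
        obtain ⟨m, hm⟩ := hmem x' hcw hx'p
        exact ⟨m, by rw [← hx, MonoidHom.comp_apply, hm]; rfl⟩
      intro g hg
      obtain ⟨m, hm⟩ := (S.e k).surjective ⟨g, hg⟩
      let Q := (π'.comp blk).range.comap ((S.L k).subtype.comp (S.e k).toMonoidHom)
      have hu : ∀ t, uu t ∈ Q := fun t => hp1 _ (by rw [uu_pow, CharP.cast_eq_zero, zero_mul, uu_zero])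
      have hl : ∀ t, ll t ∈ Q := fun t => hp1 _ (by rw [ll_pow, CharP.cast_eq_zero, zero_mul, ll_zero])
      have hall : ∀ m, m ∈ Q := mem_of_gens Q hu hl
      have := hall m
      simp only [Q, Subgroup.mem_comap, MonoidHom.comp_apply, MulEquiv.coe_toMonoidHom, hm, Subgroup.coe_subtype] at this
      exact this
    haveI : Finite ↥(π'.comp blk).range := Finite.of_equiv _ (MonoidHom.ofInjective hinj).toEquiv
    refine (Subgroup.eq_of_le_of_card_ge hle ?_).symm
    rw [← Nat.card_congr (MonoidHom.ofInjective hinj).toEquiv, ← Nat.card_congr (S.e k).toEquiv]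
  have hza : π' (blkA n2) = S.z i := by rw [hπ', MonoidHom.comp_apply, hca, haz]
  have hzb : π' (blkB n2) = S.z j := by rw [hπ', MonoidHom.comp_apply, hcb, hbz]
  exact ⟨π', injA, rangeEq blkA i _ hiX (by rw [← map_mul, n2_sq, map_one]) hza
      (fun x hc hp => mem_blkA h2 hc hp) injA,
    injB, rangeEq blkB j _ hjX (by rw [← map_mul, n2_sq, map_one]) hzb
      (fun x hc hp => mem_blkB h2 hc hp) injB, hza, hzb⟩

/-- A parametrisation in standard position. -/
def Good (i : ι) (φ : SpecialLinearGroup (Fin 2) F →* G) : Prop :=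
  Function.Injective φ ∧ φ.range = S.L i ∧ ∀ j, S.Adj i j → ∀ m, S.z j * φ m * S.z j = φ (delta m)

variable [Finite G]

theorem same_action {i j k : ι} (hj : S.Adj i j) (hk : S.Adj i k) {g : G} (hg : g ∈ S.L i) :
    S.z k * g * S.z k = S.z j * g * S.z j := by
  have h2 := two_ne_zero_of_odd hF
  have notc : ∀ k, S.Adj i k → S.z k ∉ Subgroup.centralizer ((S.L i : Subgroup G) : Set G) := by
    intro k hk hmem
    obtain ⟨π, injA, hA, -, -, -, hzb⟩ := S.edge_rep hF hk
    have h := Subgroup.mem_centralizer_iff.mp hmem (π (blkA (uu 1))) (hA ▸ ⟨uu 1, rfl⟩)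
    have e : π (blkA (delta (uu 1))) = π (blkA (uu 1)) := by
      rw [← conj_zb, map_mul, map_mul, hzb, ← h, mul_assoc, (S.hz k).2.2.2, mul_one]
    have e2 := congrArg Subtype.val (injA e)
    rw [delta_val] at e2
    have := congrFun (congrFun e2 0) 1
    simp [uu] at this
    exact h2 (by linear_combination -this)
  set H₀ := Subgroup.closure (Set.range S.z) with hH
  have mj : S.z j ∈ H₀ := Subgroup.subset_closure ⟨j, rfl⟩
  have mk : S.z k ∈ H₀ := Subgroup.subset_closure ⟨k, rfl⟩
  have hm := mul_mem_of_index_le_two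
    ((H₀ ⊓ Subgroup.centralizer ((S.L i : Subgroup G) : Set G)).subgroupOf H₀) (S.h3 i)
    (a := ⟨_, mj⟩) (b := ⟨_, mk⟩)
    (fun h => notc j hj (Subgroup.mem_subgroupOf.mp h).2)
    (fun h => notc k hk (Subgroup.mem_subgroupOf.mp h).2)
  have hc := Subgroup.mem_centralizer_iff.mp (Subgroup.mem_subgroupOf.mp hm).2 g hg
  simp only [Subgroup.coe_mul] at hc
  calc S.z k * g * S.z k = S.z j * (S.z j * S.z k * g) * S.z k := by
        rw [← mul_assoc (S.z j), ← mul_assoc (S.z j) (S.z j), (S.hz j).2.2.2, one_mul]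
    _ = S.z j * (g * (S.z j * S.z k)) * S.z k := by rw [hc]
    _ = S.z j * g * S.z j * (S.z k * S.z k) := by group
    _ = S.z j * g * S.z j := by rw [(S.hz k).2.2.2, mul_one]

theorem exists_root {i j : ι} (hij : S.Adj i j) : ∃ φ, S.Good i φ := by
  obtain ⟨π, injA, hA, -, -, -, hzb⟩ := S.edge_rep hF hij
  refine ⟨π.comp blkA, injA, hA, fun k hk m => ?_⟩
  rw [S.same_action hF hij hk (hA ▸ ⟨m, rfl⟩), MonoidHom.comp_apply, MonoidHom.comp_apply, ← hzb,
    ← map_mul, ← map_mul, conj_zb]

theorem exists_step {i j : ι} (hij : S.Adj i j) {φ : SpecialLinearGroup (Fin 2) F →* G} (hφ : S.Good i φ) :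
    ∃ (φ' : SpecialLinearGroup (Fin 2) F →* G) (ψ : SpecialLinearGroup (Fin 3) F →* G),
      S.Good j φ' ∧ ψ.comp blkA = φ ∧ ψ.comp blkB = φ' := by
  obtain ⟨π, injA, hA, injB, hB, hza, hzb⟩ := S.edge_rep hF hij
  obtain ⟨hinj, hr, hact⟩ := hφ
  let eA := MonoidHom.ofInjective injA
  let eφ := MonoidHom.ofInjective hinj
  let α : SpecialLinearGroup (Fin 2) F ≃* SpecialLinearGroup (Fin 2) F :=
    (eφ.trans (MulEquiv.subgroupCongr (hr.trans hA.symm))).trans eA.symm
  have hα : ∀ m, π (blkA (α m)) = φ m := fun m => by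
    have := MonoidHom.apply_ofInjective_symm injA ((MulEquiv.subgroupCongr (hr.trans hA.symm)) (eφ m))
    exact this
  have hαd : ∀ m, α (delta m) = delta (α m) := fun m => by
    apply injA
    show π (blkA (α (delta m))) = π (blkA (delta (α m)))
    rw [hα, ← conj_zb, map_mul, map_mul, hα, hzb, hact j hij m]
  obtain ⟨Θ, β, hΘA, hΘB⟩ := exists_extend hF α hαd
  refine ⟨(π.comp blkB).comp β.toMonoidHom, π.comp Θ, ⟨injB.comp β.injective, ?_, ?_⟩, ?_, ?_⟩
  · rw [MonoidHom.range_comp, MonoidHom.range_eq_top.mpr β.surjective, ← MonoidHom.range_eq_map, hB]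
  · have hzi : π (Θ (blkA n2)) = S.z i := by rw [hΘA, hα]; exact S.z_eq hF i hinj hr
    intro k hk m
    have hm : π (blkB (β m)) ∈ S.L j := hB ▸ ⟨β m, rfl⟩
    show S.z k * π (blkB (β m)) * S.z k = π (blkB (β (delta m)))
    rw [S.same_action hF (S.adj_symm i j hij) hk hm, ← hΘB, ← hΘB, ← hzi, ← map_mul, ← map_mul, ← map_mul,
      ← map_mul, conj_za]
  · exact MonoidHom.ext fun m => by simp [MonoidHom.comp_apply, hΘA, hα]
  · exact MonoidHom.ext fun m => by simp [MonoidHom.comp_apply, hΘB]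

end Setup

end CfsgLib.CTRec
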