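/-
Curtis–Tits recognition of type A: extending a homomorphism from `SL_m` by one node.
-/
import Cfsg.Agent.Lib.CTRec.Propagate
import Cfsg.Agent.Lib.StSL.Presentation

set_option autoImplicit false

namespace CfsgLib.CTRec.TypeA

open Matrix
open scoped commutatorElement

variable {F : Type*} [Field F]

/-- The elementary matrix, extended by `1` to the diagonal. -/
def tv {m : ℕ} (i j : Fin m) (t : F) : SpecialLinearGroup (Fin m) F :=
  if h : i ≠ j then SpecialLinearGroup.transvection h t else 1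

theorem tv_val {m : ℕ} {i j : Fin m} (h : i ≠ j) (t : F) : (tv i j t).1 = 1 + Matrix.single i j t := by
  rw [tv, dif_pos h]; rfl

theorem tv_add {m : ℕ} {i j : Fin m} (h : i ≠ j) (a b : F) : tv i j (a + b) = tv i j a * tv i j b := by
  refine Subtype.ext ?_
  rw [val_mul', tv_val h, tv_val h, tv_val h, Matrix.single_add]
  simp only [add_mul, mul_add, one_mul, mul_one, single_mul_single_of_ne _ _ _ _ (Ne.symm h)]
  abel

theorem tv_zero {m : ℕ} {i j : Fin m} (h : i ≠ j) : tv i j (0 : F) = 1 := by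
  refine Subtype.ext ?_; simp [tv_val h, val_one']

theorem tv_neg {m : ℕ} {i j : Fin m} (h : i ≠ j) (a : F) : tv i j (-a) = (tv i j a)⁻¹ :=
  eq_inv_of_mul_eq_one_left (by rw [← tv_add h, neg_add_cancel, tv_zero h])

theorem tv_commute {m : ℕ} {i j k l : Fin m} (h1 : i ≠ j) (h2 : k ≠ l) (h3 : j ≠ k) (h4 : i ≠ l) (t u : F) :
    Commute (tv i j t) (tv k l u) := by
  refine Subtype.ext ?_
  rw [val_mul', val_mul', tv_val h1, tv_val h2]
  simp only [mul_add, add_mul, mul_one, one_mul, single_mul_single_of_ne _ _ _ _ h3,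
    single_mul_single_of_ne _ _ _ _ (Ne.symm h4)]
  abel

theorem tv_comm {m : ℕ} {i j k : Fin m} (h1 : i ≠ j) (h2 : j ≠ k) (h3 : i ≠ k) (t u : F) :
    ⁅tv i j t, tv j k u⁆ = tv i k (t * u) := by
  rw [tv, dif_pos h1, tv, dif_pos h2, tv, dif_pos h3]
  exact CfsgLib.SLPerfect.comm_transvection h1 h2 h3 t u

theorem tv_gen {m : ℕ} (hm : 2 ≤ m) (H : Subgroup (SpecialLinearGroup (Fin m) F))
    (h : ∀ i j t, i ≠ j → tv i j t ∈ H) (A : SpecialLinearGroup (Fin m) F) : A ∈ H := by
  have hle : (⊤ : Subgroup (SpecialLinearGroup (Fin m) F)) ≤ H := by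
    rw [← CfsgLib.StSL.closure_transvection_eq_top (K := F) hm, Subgroup.closure_le]
    rintro _ ⟨i, j, hij, t, rfl⟩
    have := h i j t hij
    rwa [tv, dif_pos hij] at this
  exact hle (Subgroup.mem_top A)

theorem tv_mulVec_self {m : ℕ} {c d : Fin m} (h : c ≠ d) (u : F) {a : Fin m} (hd : d ≠ a) :
    (tv c d u).1 *ᵥ Pi.single a (1 : F) = Pi.single a 1 := by
  rw [tv_val h, Matrix.add_mulVec, Matrix.one_mulVec]
  funext i
  simp [Matrix.single_apply, hd]

theorem tv_mulVec_col {m : ℕ} {c d : Fin m} (h : c ≠ d) (u : F) :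
    (tv c d u).1 *ᵥ Pi.single d (1 : F) = Pi.single d 1 + u • Pi.single c 1 := by
  rw [tv_val h, Matrix.add_mulVec, Matrix.one_mulVec]
  congr 1
  funext i
  simp [Matrix.single_apply, Pi.single_apply, eq_comm]

/-- Inverse transpose. -/
def thetaN (m : ℕ) : SpecialLinearGroup (Fin m) F →* SpecialLinearGroup (Fin m) F where
  toFun g := ⟨(g⁻¹).1ᵀ, by rw [Matrix.det_transpose, (g⁻¹).2]⟩
  map_one' := by refine Subtype.ext ?_; simp [val_one']
  map_mul' x y := by
    refine Subtype.ext ?_
    refine Eq.trans ?_ (val_mul' _ _).symm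
    simp only [_root_.mul_inv_rev, val_mul', Matrix.transpose_mul]

theorem thetaN_tv {m : ℕ} {i j : Fin m} (h : i ≠ j) (t : F) : thetaN m (tv i j t) = tv j i (-t) := by
  refine Subtype.ext ?_
  show ((tv i j t)⁻¹).1ᵀ = _
  rw [← tv_neg h, tv_val h, tv_val (Ne.symm h), Matrix.transpose_add, Matrix.transpose_one,
    Matrix.transpose_single]

theorem thetaN_thetaN {m : ℕ} (g : SpecialLinearGroup (Fin m) F) : thetaN m (thetaN m g) = g := by
  have h2 : ∀ m (g : SpecialLinearGroup (Fin m) F), (thetaN m g).1 = (g⁻¹).1ᵀ := fun _ _ => rfl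
  refine Subtype.ext ?_
  rw [h2, ← map_inv, h2, inv_inv, Matrix.transpose_transpose]

/-- A signed permutation matrix. -/
structure Mono (m : ℕ) (F : Type*) [Field F] where
  σ : Equiv.Perm (Fin m)
  ε : Fin m → F
  M : SpecialLinearGroup (Fin m) F
  val : ∀ i j, M.1 i j = if i = σ j then ε j else 0
  sq : ∀ j, ε j * ε j = 1

theorem exists_mono {m : ℕ} (p q a c : Fin m) (hpq : p ≠ q) (hac : a ≠ c) (hm : 3 ≤ m) :
    ∃ P : Mono m F, P.σ p = a ∧ P.σ q = c ∧ P.ε p = 1 ∧ P.ε q = 1 := by
  classical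
  obtain ⟨σ, hp, hq⟩ : ∃ σ : Equiv.Perm (Fin m), σ p = a ∧ σ q = c := by
    refine ⟨(Equiv.swap p a).trans (Equiv.swap (Equiv.swap p a q) c), ?_, ?_⟩
    · rw [Equiv.trans_apply, Equiv.swap_apply_left, Equiv.swap_apply_of_ne_of_ne]
      · intro e
        have h' := congrArg (Equiv.swap p a) e
        rw [Equiv.swap_apply_self, Equiv.swap_apply_right] at h'
        exact hpq h'
      · exact hac
    · rw [Equiv.trans_apply, Equiv.swap_apply_left]
  obtain ⟨r, hrp, hrq⟩ : ∃ r : Fin m, r ≠ p ∧ r ≠ q := by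
    by_contra hcon
    push Not at hcon
    have h1 := Finset.card_le_card (fun l _ => show l ∈ ({p, q} : Finset (Fin m)) by
      simp only [Finset.mem_insert, Finset.mem_singleton]
      exact or_iff_not_imp_left.mpr (hcon l) : (Finset.univ : Finset (Fin m)) ⊆ {p, q})
    have h2 : ({p, q} : Finset (Fin m)).card ≤ 2 := Finset.card_le_two
    simp at h1
    omega
  set s : F := (((Equiv.Perm.sign σ⁻¹ : ℤˣ) : ℤ) : F) with hs
  have hss : s * s = 1 := by
    rw [hs, ← Int.cast_mul, ← Units.val_mul, Int.units_mul_self, Units.val_one, Int.cast_one]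
  set ε : Fin m → F := fun j => if j = r then s else 1 with hε
  have hM : ∀ i j, ((σ⁻¹).permMatrix F * diagonal ε) i j = if i = σ j then ε j else 0 := by
    intro i j
    rw [Matrix.mul_diagonal, Equiv.Perm.permMatrix, PEquiv.toMatrix_apply]
    by_cases h : i = σ j
    · subst h; simp
    · rw [if_neg h, if_neg, zero_mul]
      intro e
      apply h
      simp only [Equiv.toPEquiv_apply, Option.mem_def, Option.some.injEq] at e
      rw [← e]; simp
  have hdet : ((σ⁻¹).permMatrix F * diagonal ε).det = 1 := by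
    rw [Matrix.det_mul, Matrix.det_permutation, Matrix.det_diagonal, hε, Finset.prod_ite_eq' Finset.univ r,
      if_pos (Finset.mem_univ r)]
    exact hss
  exact ⟨⟨σ, ε, ⟨_, hdet⟩, hM, fun j => by simp only [hε]; split_ifs <;> simp [hss]⟩, hp, hq,
    by simp [hε, Ne.symm hrp], by simp [hε, Ne.symm hrq]⟩

theorem Mono.mulVec {m : ℕ} (P : Mono m F) (a : Fin m) (h : P.ε a = 1) :
    P.M.1 *ᵥ Pi.single a (1 : F) = Pi.single (P.σ a) 1 := by
  funext i
  rw [Matrix.mulVec_single_one, Matrix.col_apply, P.val, h, Pi.single_apply]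

theorem Mono.conj_tv {m : ℕ} (P : Mono m F) {i j : Fin m} (h : i ≠ j) (t : F) :
    P.M * tv i j t * P.M⁻¹ = tv (P.σ i) (P.σ j) (P.ε i * P.ε j * t) := by
  rw [mul_inv_eq_iff_eq_mul]
  refine Subtype.ext ?_
  rw [val_mul', val_mul', tv_val h, tv_val (P.σ.injective.ne h), mul_add, add_mul, mul_one, one_mul]
  congr 1
  ext x y
  by_cases hy : y = j
  · subst hy
    rw [Matrix.mul_single_apply_same, P.val]
    by_cases hx : x = P.σ i
    · subst hx
      rw [if_pos rfl, Matrix.single_mul_apply_same, P.val, if_pos rfl]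
      linear_combination (-(P.ε i * t)) * P.sq y
    · rw [if_neg hx, zero_mul, Matrix.single_mul_apply_of_ne _ _ _ _ _ hx]
  · rw [Matrix.mul_single_apply_of_ne _ _ _ _ _ hy]
    by_cases hx : x = P.σ i
    · subst hx
      rw [Matrix.single_mul_apply_same, P.val, if_neg (P.σ.injective.ne (Ne.symm hy)), mul_zero]
    · rw [Matrix.single_mul_apply_of_ne _ _ _ _ _ hx]

theorem Mono.theta {m : ℕ} (P : Mono m F) : thetaN m P.M = P.M := by
  have h1 : P.M.1 * P.M.1ᵀ = 1 := by
    ext i j
    rw [Matrix.mul_apply, Finset.sum_eq_single (P.σ.symm i)]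
    · rw [Matrix.transpose_apply, P.val, P.val, if_pos (by simp)]
      by_cases hij : i = j
      · subst hij; rw [if_pos (by simp), P.sq]; simp
      · rw [if_neg (by simp; exact Ne.symm hij), mul_zero, Matrix.one_apply_ne hij]
    · intro b _ hb
      rw [P.val, if_neg (fun e => hb (by rw [e]; simp)), zero_mul]
    · simp
  have hv : ((P.M)⁻¹).1 = P.M.1ᵀ := by
    have h2 : ((P.M)⁻¹).1 * P.M.1 = 1 := by rw [← val_mul', inv_mul_cancel, val_one']
    calc ((P.M)⁻¹).1 = ((P.M)⁻¹).1 * (P.M.1 * P.M.1ᵀ) := by rw [h1, mul_one]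
      _ = P.M.1ᵀ := by rw [← mul_assoc, h2, one_mul]
  refine Subtype.ext ?_
  show ((P.M)⁻¹).1ᵀ = P.M.1
  rw [hv, Matrix.transpose_transpose]

/-- Block diagonal `(B, 1)`. -/
def embM {k : ℕ} (B : Matrix (Fin k) (Fin k) F) : Matrix (Fin (k + 1)) (Fin (k + 1)) F :=
  Matrix.of fun i j => Fin.lastCases (Fin.lastCases (1 : F) (fun _ => 0) j)
    (fun i' => Fin.lastCases (0 : F) (fun j' => B i' j') j) i

@[simp] theorem embM_ll {k : ℕ} (B : Matrix (Fin k) (Fin k) F) : embM B (Fin.last k) (Fin.last k) = 1 := by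
  simp [embM]

@[simp] theorem embM_lc {k : ℕ} (B : Matrix (Fin k) (Fin k) F) (j : Fin k) :
    embM B (Fin.last k) j.castSucc = 0 := by simp [embM]

@[simp] theorem embM_cl {k : ℕ} (B : Matrix (Fin k) (Fin k) F) (i : Fin k) :
    embM B i.castSucc (Fin.last k) = 0 := by simp [embM]

@[simp] theorem embM_cc {k : ℕ} (B : Matrix (Fin k) (Fin k) F) (i j : Fin k) :
    embM B i.castSucc j.castSucc = B i j := by simp [embM]

theorem det_last_col {k : ℕ} (A : Matrix (Fin (k + 1)) (Fin (k + 1)) F)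
    (h : ∀ i, A i (Fin.last k) = if i = Fin.last k then 1 else 0) :
    A.det = (A.submatrix Fin.castSucc Fin.castSucc).det := by
  rw [Matrix.det_succ_column _ (Fin.last k), Finset.sum_eq_single (Fin.last k)]
  · rw [h, if_pos rfl, mul_one, Fin.succAbove_last, ← two_mul, pow_mul]
    simp
  · intro i _ hi; rw [h, if_neg hi]; simp
  · simp

/-- The embedding into the first coordinates. -/
def emb (k : ℕ) : SpecialLinearGroup (Fin k) F →* SpecialLinearGroup (Fin (k + 1)) F where
  toFun B := ⟨embM B.1, by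
    rw [det_last_col _ (fun i => by induction i using Fin.lastCases <;> simp [Fin.castSucc_ne_last]),
      show (embM B.1).submatrix Fin.castSucc Fin.castSucc = B.1 from by ext i j; simp, B.2]⟩
  map_one' := by
    refine Subtype.ext ?_
    show embM (1 : Matrix (Fin k) (Fin k) F) = 1
    ext i j
    induction i using Fin.lastCases <;> induction j using Fin.lastCases <;>
      simp [Matrix.one_apply, Fin.castSucc_ne_last, Ne.symm (Fin.castSucc_ne_last _)]
  map_mul' x y := by
    refine Subtype.ext ?_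
    show embM (x.1 * y.1) = embM x.1 * embM y.1
    ext i j
    induction i using Fin.lastCases <;> induction j using Fin.lastCases <;>
      simp [Matrix.mul_apply, Fin.sum_univ_castSucc]

theorem emb_val {k : ℕ} (B : SpecialLinearGroup (Fin k) F) : (emb k B).1 = embM B.1 := rfl

theorem emb_tv {k : ℕ} {i j : Fin k} (h : i ≠ j) (t : F) :
    emb k (tv i j t) = tv i.castSucc j.castSucc t := by
  refine Subtype.ext ?_
  rw [emb_val, tv_val h, tv_val ((Fin.castSucc_injective k).ne h)]
  ext a b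
  induction a using Fin.lastCases <;> induction b using Fin.lastCases <;>
    simp [Matrix.one_apply, Matrix.single_apply, Fin.castSucc_ne_last,
      Ne.symm (Fin.castSucc_ne_last _)]

/-- The stabilizer of the last basis vector is generated by the transvections fixing it. -/
theorem stab_gen {k : ℕ} (hk : 2 ≤ k) (H : Subgroup (SpecialLinearGroup (Fin (k + 1)) F))
    (hgen : ∀ c d : Fin (k + 1), c ≠ d → d ≠ Fin.last k → ∀ t, tv c d t ∈ H)
    (A : SpecialLinearGroup (Fin (k + 1)) F) (hA : A.1 *ᵥ Pi.single (Fin.last k) (1 : F) = Pi.single (Fin.last k) 1) :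
    A ∈ H := by
  classical
  have hemb : ∀ B, emb k B ∈ H := by
    intro B
    refine tv_gen hk (H.comap (emb k)) (fun i j t hij => ?_) B
    rw [Subgroup.mem_comap, emb_tv hij]
    exact hgen _ _ ((Fin.castSucc_injective k).ne hij) (Fin.castSucc_ne_last j) t
  have hcol : ∀ i, A.1 i (Fin.last k) = if i = Fin.last k then 1 else 0 := fun i => by
    have := congrFun hA i
    rwa [Matrix.mulVec_single_one, Matrix.col_apply, Pi.single_apply] at this
  have hdetB : (A.1.submatrix Fin.castSucc Fin.castSucc).det = 1 := by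
    rw [← det_last_col _ hcol]; exact A.2
  set B : SpecialLinearGroup (Fin k) F := ⟨_, hdetB⟩
  set C := A * (emb k B)⁻¹ with hC
  have hCA : C * emb k B = A := by rw [hC, inv_mul_cancel_right]
  -- `C` differs from `1` only in the last row
  have hrow : ∀ i j, i ≠ Fin.last k → C.1 i j = (1 : Matrix _ _ F) i j := by
    intro i j hi
    have hfix : C.1 *ᵥ Pi.single (Fin.last k) (1 : F) = Pi.single (Fin.last k) 1 := by
      have he : (emb k B).1 *ᵥ Pi.single (Fin.last k) (1 : F) = Pi.single (Fin.last k) 1 := by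
        funext x
        rw [Matrix.mulVec_single_one, Matrix.col_apply]
        induction x using Fin.lastCases <;> simp [emb_val, Fin.castSucc_ne_last]
      conv_lhs => rw [← he, Matrix.mulVec_mulVec, ← val_mul', hCA, hA]
    induction j using Fin.lastCases with
    | last =>
      have := congrFun hfix i
      rw [Matrix.mulVec_single_one, Matrix.col_apply, Pi.single_apply, if_neg hi] at this
      rw [this, Matrix.one_apply_ne hi]
    | cast j =>
      have hinv : C = A * emb k B⁻¹ := by rw [hC, map_inv]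
      obtain ⟨i', rfl⟩ := Fin.exists_castSucc_eq.mpr hi
      rw [hinv, val_mul', Matrix.mul_apply, Fin.sum_univ_castSucc]
      rw [hcol, if_neg (Fin.castSucc_ne_last _), zero_mul, add_zero]
      have hBB := congrFun (congrFun (congrArg Subtype.val (mul_inv_cancel B)) i') j
      rw [val_mul', val_one', Matrix.mul_apply] at hBB
      rw [show (1 : Matrix (Fin (k + 1)) (Fin (k + 1)) F) i'.castSucc j.castSucc =
        (1 : Matrix (Fin k) (Fin k) F) i' j by simp [Matrix.one_apply], ← hBB]
      refine Finset.sum_congr rfl fun x _ => ?_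
      simp [emb_val, B]
  have hC22 : C.1 (Fin.last k) (Fin.last k) = 1 := by
    have h1 : (emb k B).1 *ᵥ Pi.single (Fin.last k) (1 : F) = Pi.single (Fin.last k) 1 := by
      funext x
      rw [Matrix.mulVec_single_one, Matrix.col_apply]
      induction x using Fin.lastCases <;> simp [emb_val, Fin.castSucc_ne_last]
    have h2 : C.1 *ᵥ Pi.single (Fin.last k) (1 : F) = Pi.single (Fin.last k) 1 := by
      conv_lhs => rw [← h1, Matrix.mulVec_mulVec, ← val_mul', hCA, hA]
    have := congrFun h2 (Fin.last k)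
    rwa [Matrix.mulVec_single_one, Matrix.col_apply, Pi.single_eq_same] at this
  have key : ∀ S : Finset (Fin k), ∃ g ∈ H, g.1 = 1 + ∑ d ∈ S, Matrix.single (Fin.last k) d.castSucc (C.1 (Fin.last k) d.castSucc) := by
    intro S
    induction S using Finset.induction_on with
    | empty => exact ⟨1, one_mem _, by simp [val_one']⟩
    | insert d S hd ih =>
      obtain ⟨g, hg, hgv⟩ := ih
      refine ⟨tv (Fin.last k) d.castSucc (C.1 (Fin.last k) d.castSucc) * g,
        mul_mem (hgen _ _ (Ne.symm (Fin.castSucc_ne_last d)) (Fin.castSucc_ne_last d) _) hg, ?_⟩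
      have hz : Matrix.single (Fin.last k) d.castSucc (C.1 (Fin.last k) d.castSucc) *
          (∑ x ∈ S, Matrix.single (Fin.last k) x.castSucc (C.1 (Fin.last k) x.castSucc)) = 0 := by
        rw [Finset.mul_sum]
        exact Finset.sum_eq_zero fun x _ => single_mul_single_of_ne _ _ _ _ (Fin.castSucc_ne_last d) _
      rw [val_mul', tv_val (Ne.symm (Fin.castSucc_ne_last d)), hgv, Finset.sum_insert hd, add_mul, one_mul,
        mul_add, mul_one, hz, add_zero]
      abel
  obtain ⟨g, hg, hgv⟩ := key Finset.univ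
  have hCg : C = g := by
    refine Subtype.ext ?_
    rw [hgv]
    ext i j
    rw [Matrix.add_apply, Matrix.sum_apply]
    by_cases hi : i = Fin.last k
    · subst hi
      induction j using Fin.lastCases with
      | last => rw [hC22]; simp [Matrix.single_apply, Fin.castSucc_ne_last]
      | cast j =>
        rw [Finset.sum_eq_single j]
        · simp [Matrix.one_apply, Ne.symm (Fin.castSucc_ne_last j)]
        · intro b _ hb
          rw [Matrix.single_apply, if_neg]
          rintro ⟨-, e⟩; exact hb (Fin.castSucc_injective k e)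
        · simp
    · rw [hrow i j hi, Finset.sum_eq_zero, add_zero]
      intro x _
      rw [Matrix.single_apply, if_neg]
      rintro ⟨e, -⟩; exact hi e.symm
  rw [← hCA, hCg]
  exact mul_mem hg (hemb B)

variable {G : Type*} [Group G]

/-- Data for adjoining a node to `SL_{k+3}`. -/
structure Col (k : ℕ) (F : Type*) [Field F] (G : Type*) [Group G] where
  μ : SpecialLinearGroup (Fin (k + 3)) F →* G
  ψ : SpecialLinearGroup (Fin 3) F →* G
  h01 : ∀ t, ψ (tv 0 1 t) = μ (tv ⟨k + 1, by omega⟩ (Fin.last (k + 2)) t)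
  h10 : ∀ t, ψ (tv 1 0 t) = μ (tv (Fin.last (k + 2)) ⟨k + 1, by omega⟩ t)
  far : ∀ (j : ℕ) (hj : j ≤ k) (t u : F),
    (Commute (μ (tv ⟨j, by omega⟩ ⟨j + 1, by omega⟩ t)) (ψ (tv 1 2 u)) ∧
      Commute (μ (tv ⟨j + 1, by omega⟩ ⟨j, by omega⟩ t)) (ψ (tv 1 2 u))) ∧
    (Commute (μ (tv ⟨j, by omega⟩ ⟨j + 1, by omega⟩ t)) (ψ (tv 2 1 u)) ∧
      Commute (μ (tv ⟨j + 1, by omega⟩ ⟨j, by omega⟩ t)) (ψ (tv 2 1 u)))

namespace Col

variable {k : ℕ} (C : Col k F G)

/-- Index before the last. -/
def qq (k : ℕ) : Fin (k + 3) := ⟨k + 1, by omega⟩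

theorem qq_ne (k : ℕ) : qq k ≠ Fin.last (k + 2) := by
  intro e; have := congrArg Fin.val e; simp [qq] at this

/-- The new root element next to the diagonal. -/
def e (t : F) : G := C.ψ (tv 1 2 t)

/-- Its opposite. -/
def f (t : F) : G := C.ψ (tv 2 1 t)

/-- The opposite data. -/
def flip : Col k F G where
  μ := C.μ.comp (thetaN (k + 3))
  ψ := C.ψ.comp (thetaN 3)
  h01 t := by
    simp only [MonoidHom.comp_apply, thetaN_tv (show (0 : Fin 3) ≠ 1 by decide)]
    rw [show (⟨k + 1, by omega⟩ : Fin (k + 3)) = qq k from rfl, thetaN_tv (qq_ne k)]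
    exact C.h10 _
  h10 t := by
    simp only [MonoidHom.comp_apply, thetaN_tv (show (1 : Fin 3) ≠ 0 by decide)]
    rw [show (⟨k + 1, by omega⟩ : Fin (k + 3)) = qq k from rfl, thetaN_tv (Ne.symm (qq_ne k))]
    exact C.h01 _
  far j hj t u := by
    have hne : (⟨j, by omega⟩ : Fin (k + 3)) ≠ ⟨j + 1, by omega⟩ := by simp
    simp only [MonoidHom.comp_apply, thetaN_tv (show (1 : Fin 3) ≠ 2 by decide),
      thetaN_tv (show (2 : Fin 3) ≠ 1 by decide), thetaN_tv hne, thetaN_tv (Ne.symm hne)]
    obtain ⟨⟨a, b⟩, c, d⟩ := C.far j hj (-t) (-u)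
    exact ⟨⟨d, c⟩, b, a⟩

theorem flip_e (t : F) : C.flip.e t = C.f (-t) := by
  show C.ψ (thetaN 3 (tv 1 2 t)) = _
  rw [thetaN_tv (show (1 : Fin 3) ≠ 2 by decide)]; rfl

theorem comm_gen (c d : Fin (k + 3)) (hcd : c ≠ d) (hd : d ≠ Fin.last (k + 2)) (t u : F) :
    Commute (C.μ (tv c d t)) (C.e u) := by
  let H : Subgroup (SpecialLinearGroup (Fin (k + 3)) F) := (Subgroup.centralizer {C.e u}).comap C.μ
  have hmem : ∀ g, g ∈ H ↔ Commute (C.μ g) (C.e u) := fun g => by
    simp only [H, Subgroup.mem_comap, Subgroup.mem_centralizer_singleton_iff, Commute, SemiconjBy]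
  -- the generators
  have hg1 : ∀ (j : ℕ) (hj : j ≤ k) t, tv (⟨j, by omega⟩ : Fin (k + 3)) ⟨j + 1, by omega⟩ t ∈ H ∧
      tv (⟨j + 1, by omega⟩ : Fin (k + 3)) ⟨j, by omega⟩ t ∈ H := fun j hj t =>
    ⟨(hmem _).mpr (C.far j hj t u).1.1, (hmem _).mpr (C.far j hj t u).1.2⟩
  have hg2 : ∀ t, tv (Fin.last (k + 2)) (qq k) t ∈ H := fun t => by
    rw [hmem, qq, ← C.h10, e]
    exact (tv_commute (by decide) (by decide) (by decide) (by decide) t u).map C.ψ
  have chain : ∀ {a b c : Fin (k + 3)}, a ≠ b → b ≠ c → a ≠ c → (∀ t, tv a b t ∈ H) → (∀ t, tv b c t ∈ H) →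
      ∀ t, tv a c t ∈ H := by
    intro a b c h1 h2 h3 hab hbc t
    rw [← mul_one t, ← tv_comm h1 h2 h3, commutatorElement_def]
    exact mul_mem (mul_mem (mul_mem (hab _) (hbc _)) (inv_mem (hab _))) (inv_mem (hbc _))
  have hlow : ∀ (n : ℕ) (a : ℕ) (h : a + n + 1 ≤ k + 1), ∀ t,
      tv (⟨a, by omega⟩ : Fin (k + 3)) ⟨a + n + 1, by omega⟩ t ∈ H ∧
        tv (⟨a + n + 1, by omega⟩ : Fin (k + 3)) ⟨a, by omega⟩ t ∈ H := by
    intro n
    induction n with
    | zero => intro a h t; exact hg1 a (by omega) t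
    | succ n ih =>
      intro a h t
      have h1 := fun t => ih a (by omega) t
      have h2 := fun t => hg1 (a + n + 1) (by omega) t
      refine ⟨?_, ?_⟩
      · exact chain (b := ⟨a + n + 1, by omega⟩) (by simp; omega) (by simp) (by simp; omega)
          (fun t => (h1 t).1) (fun t => (h2 t).1) t
      · exact chain (b := ⟨a + n + 1, by omega⟩) (by simp) (by simp; omega) (by simp; omega)
          (fun t => (h2 t).2) (fun t => (h1 t).2) t
  have hsmall : ∀ a b : Fin (k + 3), a ≠ b → a.val ≤ k + 1 → b.val ≤ k + 1 → ∀ t, tv a b t ∈ H := by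
    intro a b hab ha hb t
    rcases Nat.lt_or_ge a.val b.val with hlt | hge
    · obtain ⟨n, hn⟩ := Nat.exists_eq_add_of_lt hlt
      have e1 : b = ⟨a.val + n + 1, by omega⟩ := Fin.ext hn
      rw [e1]; exact (hlow n a.val (by omega) t).1
    · obtain ⟨n, hn⟩ := Nat.exists_eq_add_of_lt (lt_of_le_of_ne hge (fun e => hab (Fin.ext e.symm)))
      have e1 : a = ⟨b.val + n + 1, by omega⟩ := Fin.ext hn
      rw [e1]; exact (hlow n b.val (by omega) t).2
  refine (hmem _).mp ?_
  have hd' : d.val ≤ k + 1 := by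
    have : d.val ≠ k + 2 := fun e => hd (Fin.ext e)
    omega
  by_cases hc : c = Fin.last (k + 2)
  · subst hc
    by_cases hdq : d = qq k
    · subst hdq; exact hg2 t
    · refine chain (b := qq k) (Ne.symm (qq_ne k)) (Ne.symm hdq) hcd hg2
        (hsmall _ _ (Ne.symm hdq) (by simp [qq]) hd') t
  · have hc' : c.val ≤ k + 1 := by
      have : c.val ≠ k + 2 := fun e => hc (Fin.ext e)
      omega
    exact hsmall c d hcd hc' hd' t

theorem stab (A : SpecialLinearGroup (Fin (k + 3)) F)
    (hA : A.1 *ᵥ Pi.single (Fin.last (k + 2)) (1 : F) = Pi.single (Fin.last (k + 2)) 1) (u : F) :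
    Commute (C.μ A) (C.e u) := by
  have := stab_gen (by omega) ((Subgroup.centralizer {C.e u}).comap C.μ) (fun c d hcd hd t => by
    rw [Subgroup.mem_comap, Subgroup.mem_centralizer_singleton_iff]
    exact C.comm_gen c d hcd hd t u) A hA
  rw [Subgroup.mem_comap, Subgroup.mem_centralizer_singleton_iff] at this
  exact this

theorem exists_to (a : Fin (k + 3)) :
    ∃ M : SpecialLinearGroup (Fin (k + 3)) F, M.1 *ᵥ Pi.single (Fin.last (k + 2)) (1 : F) = Pi.single a 1 := by
  obtain ⟨c, hc⟩ := exists_ne a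
  obtain ⟨P, h1, -, h3, -⟩ := exists_mono (F := F) (Fin.last (k + 2)) (qq k) a c (Ne.symm (qq_ne k))
    (Ne.symm hc) (by omega)
  exact ⟨P.M, by rw [P.mulVec _ h3, h1]⟩

/-- The root elements in the new column. -/
noncomputable def x (a : Fin (k + 3)) (t : F) : G :=
  C.μ (exists_to a).choose * C.e t * (C.μ (exists_to a).choose)⁻¹

theorem x_eq {a : Fin (k + 3)} (M : SpecialLinearGroup (Fin (k + 3)) F)
    (hM : M.1 *ᵥ Pi.single (Fin.last (k + 2)) (1 : F) = Pi.single a 1) (t : F) :
    C.μ M * C.e t * (C.μ M)⁻¹ = C.x a t := by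
  rw [x]
  set N := (exists_to (F := F) a).choose with hN
  have hN' : N.1 *ᵥ Pi.single (Fin.last (k + 2)) (1 : F) = Pi.single a 1 := (exists_to a).choose_spec
  have hinv : (N⁻¹).1 *ᵥ Pi.single a (1 : F) = Pi.single (Fin.last (k + 2)) 1 := by
    rw [← hN', Matrix.mulVec_mulVec, ← val_mul', inv_mul_cancel, val_one', Matrix.one_mulVec]
  have hc := C.stab (N⁻¹ * M) (by rw [val_mul', ← Matrix.mulVec_mulVec, hM, hinv]) t
  rw [map_mul, map_inv] at hc
  calc C.μ M * C.e t * (C.μ M)⁻¹ = C.μ N * (((C.μ N)⁻¹ * C.μ M) * C.e t) * (C.μ M)⁻¹ := by group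
    _ = C.μ N * (C.e t * ((C.μ N)⁻¹ * C.μ M)) * (C.μ M)⁻¹ := by rw [hc.eq]
    _ = C.μ N * C.e t * (C.μ N)⁻¹ := by group

theorem x_last (t : F) : C.x (Fin.last (k + 2)) t = C.e t := by
  rw [← C.x_eq 1 (by rw [val_one', Matrix.one_mulVec]), map_one, one_mul, _root_.inv_one, mul_one]

theorem x_add (a : Fin (k + 3)) (s t : F) : C.x a (s + t) = C.x a s * C.x a t := by
  simp only [x, e, tv_add (show (1 : Fin 3) ≠ 2 by decide), map_mul]; group

theorem x_comm {c d a : Fin (k + 3)} (hcd : c ≠ d) (hda : d ≠ a) (u t : F) :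
    Commute (C.μ (tv c d u)) (C.x a t) := by
  obtain ⟨M, hM⟩ := exists_to (F := F) a
  have h := C.x_eq (tv c d u * M) (by rw [val_mul', ← Matrix.mulVec_mulVec, hM, tv_mulVec_self hcd u hda]) t
  rw [map_mul, ← C.x_eq M hM t] at h
  rw [← C.x_eq M hM t, Commute, SemiconjBy]
  calc C.μ (tv c d u) * (C.μ M * C.e t * (C.μ M)⁻¹)
      = C.μ (tv c d u) * C.μ M * C.e t * (C.μ (tv c d u) * C.μ M)⁻¹ * C.μ (tv c d u) := by group
    _ = C.μ M * C.e t * (C.μ M)⁻¹ * C.μ (tv c d u) := by rw [h]

theorem x_qq (t : F) : C.x (qq k) t = C.ψ (tv 0 2 t) := by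
  have hp := qq_ne k
  set W := tv (qq k) (Fin.last (k + 2)) (1 : F) * tv (Fin.last (k + 2)) (qq k) (-1) *
    tv (qq k) (Fin.last (k + 2)) 1 with hW
  have hv : W.1 *ᵥ Pi.single (Fin.last (k + 2)) (1 : F) = Pi.single (qq k) 1 := by
    rw [hW, val_mul', val_mul', ← Matrix.mulVec_mulVec, ← Matrix.mulVec_mulVec, tv_mulVec_col hp,
      one_smul, Matrix.mulVec_add, tv_mulVec_col (Ne.symm hp),
      tv_mulVec_self (Ne.symm hp) _ hp, neg_one_smul]
    rw [show ∀ v w : Fin (k + 3) → F, v + (w + -v) = w from fun v w => by abel, tv_mulVec_self hp _ (Ne.symm hp)]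
  rw [← C.x_eq W hv, hW, map_mul, map_mul, qq, ← C.h01, ← C.h10, e, ← map_mul, ← map_mul, ← map_inv,
    ← map_mul, ← map_mul]
  congr 1
  rw [mul_inv_eq_iff_eq_mul]
  refine Subtype.ext ?_
  simp only [val_mul', tv_val (show (0 : Fin 3) ≠ 1 by decide), tv_val (show (1 : Fin 3) ≠ 0 by decide),
    tv_val (show (1 : Fin 3) ≠ 2 by decide), tv_val (show (0 : Fin 3) ≠ 2 by decide)]
  ext i j
  fin_cases i <;> fin_cases j <;> simp [Matrix.mul_apply, Fin.sum_univ_three, Matrix.single_apply]

/-- Conjugation by signed permutations moves the new column. -/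
theorem x_mono (P : Mono (k + 3) F) {a : Fin (k + 3)} (ha : P.ε a = 1) (t : F) :
    C.μ P.M * C.x a t * (C.μ P.M)⁻¹ = C.x (P.σ a) t := by
  obtain ⟨M, hM⟩ := exists_to (F := F) a
  rw [← C.x_eq M hM, ← C.x_eq (P.M * M) (by rw [val_mul', ← Matrix.mulVec_mulVec, hM, P.mulVec a ha]),
    map_mul]
  group

theorem x_chain {c a : Fin (k + 3)} (hca : c ≠ a) (u t : F) :
    ⁅C.μ (tv c a u), C.x a t⁆ = C.x c (u * t) := by
  have base : ⁅C.μ (tv (qq k) (Fin.last (k + 2)) u), C.x (Fin.last (k + 2)) t⁆ = C.x (qq k) (u * t) := by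
    rw [C.x_last, C.x_qq, qq, ← C.h01, e, ← map_commutatorElement,
      tv_comm (by decide) (by decide) (by decide)]
  obtain ⟨P, h1, h2, h3, h4⟩ := exists_mono (F := F) (Fin.last (k + 2)) (qq k) a c (Ne.symm (qq_ne k))
    (Ne.symm hca) (by omega)
  have := congrArg (MulAut.conj (C.μ P.M)) base
  rw [map_commutatorElement] at this
  simp only [MulAut.conj_apply, C.x_mono P h3, C.x_mono P h4, h1, h2] at this
  simp only [← map_mul, ← map_inv, P.conj_tv (qq_ne k), h1, h2] at this
  rwa [h4, h3, one_mul, one_mul] at this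

theorem x_x (a c : Fin (k + 3)) (s t : F) : Commute (C.x a s) (C.x c t) := by
  by_cases hac : a = c
  · subst hac; rw [Commute, SemiconjBy, ← C.x_add, ← C.x_add, add_comm]
  obtain ⟨P, h1, h2, h3, h4⟩ := exists_mono (F := F) (Fin.last (k + 2)) (qq k) a c (Ne.symm (qq_ne k))
    hac (by omega)
  have base : Commute (C.x (Fin.last (k + 2)) s) (C.x (qq k) t) := by
    rw [C.x_last, C.x_qq, e]
    exact (tv_commute (by decide) (by decide) (by decide) (by decide) s t).map C.ψ
  have := base.map (MulAut.conj (C.μ P.M)).toMonoidHom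
  simp only [MulEquiv.coe_toMonoidHom, MulAut.conj_apply, C.x_mono P h3, C.x_mono P h4, h1, h2] at this
  exact this

/-- The root elements in the new row. -/
noncomputable def y (b : Fin (k + 3)) (t : F) : G := C.flip.x b (-t)

theorem mu_flip {c d : Fin (k + 3)} (h : c ≠ d) (u : F) : C.flip.μ (tv d c (-u)) = C.μ (tv c d u) := by
  show C.μ (thetaN _ (tv d c (-u))) = _
  rw [thetaN_tv (Ne.symm h), neg_neg]

theorem mixed {a b : Fin (k + 3)} (hab : a ≠ b) (t u : F) :
    ⁅C.x a t, C.y b u⁆ = C.μ (tv a b (t * u)) := by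
  have base : ⁅C.x (qq k) t, C.flip.x (Fin.last (k + 2)) (-u)⁆ =
      C.μ (tv (qq k) (Fin.last (k + 2)) (t * u)) := by
    rw [C.x_qq, C.flip.x_last, C.flip_e, neg_neg, f, qq, ← C.h01, ← map_commutatorElement,
      tv_comm (by decide) (by decide) (by decide)]
  obtain ⟨P, h1, h2, h3, h4⟩ := exists_mono (F := F) (Fin.last (k + 2)) (qq k) b a (Ne.symm (qq_ne k))
    (Ne.symm hab) (by omega)
  have hfl : C.flip.μ P.M = C.μ P.M := by
    show C.μ (thetaN _ P.M) = _
    rw [P.theta]
  have := congrArg (MulAut.conj (C.μ P.M)) base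
  rw [map_commutatorElement] at this
  simp only [MulAut.conj_apply, C.x_mono P h4] at this
  rw [← hfl, C.flip.x_mono P h3, hfl] at this
  simp only [h1, h2, ← map_mul, ← map_inv, P.conj_tv (qq_ne k), h3, h4, one_mul] at this
  exact this

theorem y_chain {b d : Fin (k + 3)} (hbd : b ≠ d) (t u : F) :
    ⁅C.y b t, C.μ (tv b d u)⁆ = C.y d (t * u) := by
  have h := C.flip.x_chain (Ne.symm hbd) (-u) (-t)
  rw [C.mu_flip hbd] at h
  show ⁅C.flip.x b (-t), C.μ (tv b d u)⁆ = C.flip.x d (-(t * u))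
  rw [← commutatorElement_inv (C.μ (tv b d u)), h, show -u * -t = t * u by ring]
  have hz : C.flip.x d (0 : F) = 1 := by
    have h0 := C.flip.x_add d 0 0
    rw [add_zero] at h0
    exact mul_left_cancel (h0.symm.trans (mul_one _).symm)
  exact inv_eq_of_mul_eq_one_right (by rw [← C.flip.x_add, add_neg_cancel, hz])

/-- All root elements of the bigger system. -/
noncomputable def X (i j : Fin (k + 4)) (t : F) : G :=
  Fin.lastCases (Fin.lastCases (1 : G) (fun b => C.y b t) j)
    (fun a => Fin.lastCases (C.x a t) (fun b => C.μ (tv a b t)) j) i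

theorem raw : CfsgLib.StSL.Raw C.X := by
  refine ⟨fun {i j} h a b => ?_, fun {i j p q} h1 h2 h3 h4 t u => ?_, fun {i j p} h1 h2 h3 t u => ?_⟩
  · induction i using Fin.lastCases with
    | last =>
      induction j using Fin.lastCases with
      | last => exact absurd rfl h
      | cast j => simp only [X, Fin.lastCases_last, Fin.lastCases_castSucc, y, neg_add, C.flip.x_add]
    | cast i =>
      induction j using Fin.lastCases with
      | last => simp only [X, Fin.lastCases_last, Fin.lastCases_castSucc, C.x_add]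
      | cast j =>
        simp only [X, Fin.lastCases_castSucc, tv_add (show i ≠ j from fun e => h (by rw [e])), map_mul]
  · induction i using Fin.lastCases <;> induction j using Fin.lastCases <;>
      induction p using Fin.lastCases <;> induction q using Fin.lastCases <;>
      first
        | exact absurd rfl h1
        | exact absurd rfl h2
        | exact absurd rfl h3
        | exact absurd rfl h4
        | skip
    all_goals simp only [X, Fin.lastCases_last, Fin.lastCases_castSucc, y]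
    · exact C.flip.x_x _ _ _ _
    · rename_i b p q
      rw [← C.mu_flip (show p ≠ q from fun e => h2 (by rw [e]))]
      exact (C.flip.x_comm (show q ≠ p from fun e => h2 (by rw [e])) (show p ≠ b from fun e => h3 (by rw [e])) _ _).symm
    · exact C.x_x _ _ _ _
    · rename_i a p q
      exact (C.x_comm (show p ≠ q from fun e => h2 (by rw [e])) (show q ≠ a from fun e => h4 (by rw [e])) _ _).symm
    · rename_i a b q
      rw [← C.mu_flip (show a ≠ b from fun e => h1 (by rw [e]))]
      exact C.flip.x_comm (show b ≠ a from fun e => h1 (by rw [e])) (show a ≠ q from fun e => h4 (by rw [e])) _ _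
    · rename_i a b p
      exact C.x_comm (show a ≠ b from fun e => h1 (by rw [e])) (show b ≠ p from fun e => h3 (by rw [e])) _ _
    · rename_i a b p q
      exact (tv_commute (show a ≠ b from fun e => h1 (by rw [e])) (show p ≠ q from fun e => h2 (by rw [e]))
        (show b ≠ p from fun e => h3 (by rw [e])) (show a ≠ q from fun e => h4 (by rw [e])) t u).map C.μ
  · induction i using Fin.lastCases <;> induction j using Fin.lastCases <;>
      induction p using Fin.lastCases <;>
      first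
        | exact absurd rfl h1
        | exact absurd rfl h2
        | exact absurd rfl h3
        | skip
    all_goals simp only [X, Fin.lastCases_last, Fin.lastCases_castSucc]
    · exact C.y_chain (fun e => h2 (by rw [e])) t u
    · exact C.mixed (fun e => h3 (by rw [e])) t u
    · exact C.x_chain (fun e => h1 (by rw [e])) t u
    · rename_i a b c
      rw [← map_commutatorElement, tv_comm (fun e => h1 (by rw [e])) (fun e => h2 (by rw [e])) (fun e => h3 (by rw [e]))]

/-- The extended homomorphism. -/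
theorem exists_step [Finite F] : ∃ μ' : SpecialLinearGroup (Fin (k + 4)) F →* G,
    ∀ i j : Fin (k + 4), i ≠ j → ∀ t, μ' (tv i j t) = C.X i j t := by
  obtain ⟨ε, hε⟩ := CfsgLib.StSL.exists_presentation (K := F) (n := k + 4) (by omega)
  have R := C.raw
  let g : {ij : Fin (k + 4) × Fin (k + 4) // ij.1 ≠ ij.2} × F → G := fun p => C.X p.1.1.1 p.1.1.2 p.2
  have hrels : ∀ w ∈ CfsgLib.StSL.stRels (k + 4) F, FreeGroup.lift g w = 1 := by
    rintro w ((⟨a, t, u, rfl⟩ | ⟨a, b, t, u, h1, h2, rfl⟩) | ⟨a, b, h, t, u, he, rfl⟩)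
    · simp only [map_mul, map_inv, FreeGroup.lift_apply_of, g]
      rw [mul_inv_eq_one]; exact (R.add a.2 t u).symm
    · simp only [map_mul, map_inv, FreeGroup.lift_apply_of, g]
      exact commutatorElement_eq_one_iff_commute.mpr (R.comm a.2 b.2 h2 h1 t u)
    · simp only [map_mul, map_inv, FreeGroup.lift_apply_of, g]
      rw [mul_inv_eq_one]
      obtain ⟨⟨i, j⟩, hij⟩ := a
      obtain ⟨⟨j', l⟩, hjl⟩ := b
      obtain rfl : j = j' := he
      exact R.mul hij hjl h t u
  refine ⟨(PresentedGroup.toGroup hrels).comp ε.symm.toMonoidHom, fun i j hij t => ?_⟩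
  rw [tv, dif_pos hij, MonoidHom.comp_apply, ← hε ⟨(i, j), hij⟩ t, MulEquiv.coe_toMonoidHom,
    MulEquiv.symm_apply_apply]
  exact PresentedGroup.toGroup.of hrels

end Col

end CfsgLib.CTRec.TypeA
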