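/-
Curtis–Tits recognition of `PSL_{n+1}(q)`.
-/
import Cfsg.Agent.Lib.CTRec.TypeA

set_option autoImplicit false

namespace CfsgLib.CTRec.TypeA

open Matrix

variable {F : Type*} [Field F] {G : Type*} [Group G]

theorem blk_tv (t : F) : blkA (uu t) = tv 0 1 t ∧ blkA (ll t) = tv 1 0 t ∧ blkB (uu t) = tv 1 2 t ∧
    blkB (ll t) = tv 2 1 t := by
  refine ⟨?_, ?_, ?_, ?_⟩
  · refine Subtype.ext ?_
    rw [blkA_val, tv_val (show (0 : Fin 3) ≠ 1 by decide)]
    ext i j; fin_cases i <;> fin_cases j <;> simp [uu, Matrix.single_apply]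
  · refine Subtype.ext ?_
    rw [blkA_val, tv_val (show (1 : Fin 3) ≠ 0 by decide)]
    ext i j; fin_cases i <;> fin_cases j <;> simp [ll, Matrix.single_apply]
  · refine Subtype.ext ?_
    rw [blkB_val, tv_val (show (1 : Fin 3) ≠ 2 by decide)]
    ext i j; fin_cases i <;> fin_cases j <;> simp [uu, Matrix.single_apply]
  · refine Subtype.ext ?_
    rw [blkB_val, tv_val (show (2 : Fin 3) ≠ 1 by decide)]
    ext i j; fin_cases i <;> fin_cases j <;> simp [ll, Matrix.single_apply]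

/-- The line of nodes gives a homomorphism from the special linear group. -/
theorem exists_hom [Finite F] (n : ℕ) (φ : ℕ → SpecialLinearGroup (Fin 2) F →* G)
    (hψ : ∀ j, j + 1 < n → ∃ ψ : SpecialLinearGroup (Fin 3) F →* G, ψ.comp blkA = φ j ∧ ψ.comp blkB = φ (j + 1))
    (hcomm : ∀ i j, i + 1 < j → j < n → ∀ m m', Commute (φ i m) (φ j m')) :
    ∀ k, k + 2 ≤ n → ∃ μ : SpecialLinearGroup (Fin (k + 3)) F →* G,
      ∀ j (hj : j ≤ k + 1) (t : F),
        μ (tv ⟨j, by omega⟩ ⟨j + 1, by omega⟩ t) = φ j (uu t) ∧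
        μ (tv ⟨j + 1, by omega⟩ ⟨j, by omega⟩ t) = φ j (ll t) := by
  intro k
  induction k with
  | zero =>
    intro hk
    obtain ⟨ψ, hA, hB⟩ := hψ 0 (by omega)
    refine ⟨ψ, fun j hj t => ?_⟩
    obtain ⟨a, b, c, d⟩ := blk_tv t
    rcases (by omega : j = 0 ∨ j = 1) with rfl | rfl
    · exact ⟨(congrArg ψ a.symm).trans (DFunLike.congr_fun hA _),
        (congrArg ψ b.symm).trans (DFunLike.congr_fun hA _)⟩
    · exact ⟨(congrArg ψ c.symm).trans (DFunLike.congr_fun hB _),
        (congrArg ψ d.symm).trans (DFunLike.congr_fun hB _)⟩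
  | succ k ih =>
    intro hk
    obtain ⟨μ, hμ⟩ := ih (by omega)
    obtain ⟨ψ, hA, hB⟩ := hψ (k + 1) (by omega)
    have eA : ∀ m, ψ (blkA m) = φ (k + 1) m := fun m => DFunLike.congr_fun hA m
    have eB : ∀ m, ψ (blkB m) = φ (k + 2) m := fun m => DFunLike.congr_fun hB m
    let C : Col k F G :=
      { μ := μ, ψ := ψ
        h01 := fun t => by
          rw [← (blk_tv t).1, eA, ← (hμ (k + 1) le_rfl t).1]; rfl
        h10 := fun t => by
          rw [← (blk_tv t).2.1, eA, ← (hμ (k + 1) le_rfl t).2]; rfl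
        far := fun j hj t u => by
          rw [← (blk_tv u).2.2.1, ← (blk_tv u).2.2.2, eB, eB, (hμ j (by omega) t).1, (hμ j (by omega) t).2]
          exact ⟨⟨hcomm _ _ (by omega) (by omega) _ _, hcomm _ _ (by omega) (by omega) _ _⟩,
            hcomm _ _ (by omega) (by omega) _ _, hcomm _ _ (by omega) (by omega) _ _⟩ }
    obtain ⟨μ', hμ'⟩ := C.exists_step
    refine ⟨μ', fun j hj t => ?_⟩
    rw [hμ' _ _ (by simp), hμ' _ _ (by simp)]
    rcases Nat.lt_or_ge j (k + 2) with hlt | hge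
    · rw [show (⟨j, by omega⟩ : Fin (k + 4)) = (⟨j, by omega⟩ : Fin (k + 3)).castSucc from rfl,
        show (⟨j + 1, by omega⟩ : Fin (k + 4)) = (⟨j + 1, by omega⟩ : Fin (k + 3)).castSucc from rfl]
      simp only [Col.X, Fin.lastCases_castSucc]
      exact hμ j (by omega) t
    · obtain rfl : j = k + 2 := by omega
      rw [show (⟨k + 2, by omega⟩ : Fin (k + 4)) = (Fin.last (k + 2)).castSucc from rfl,
        show (⟨k + 2 + 1, by omega⟩ : Fin (k + 4)) = Fin.last (k + 3) from rfl]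
      simp only [Col.X, Fin.lastCases_castSucc, Fin.lastCases_last, Col.y, C.x_last, C.flip.x_last]
      rw [C.flip_e, neg_neg]
      simp only [Col.e, Col.f]
      exact ⟨(congrArg ψ (blk_tv t).2.2.1.symm).trans (eB _), (congrArg ψ (blk_tv t).2.2.2.symm).trans (eB _)⟩

theorem iso_of_setup [Fintype F] [Finite G] [IsSimpleGroup G] {n : ℕ} (hn : 3 ≤ n) (S : Setup (Fin n) F G)
    (hF : Odd (Fintype.card F)) (hAdj : ∀ i j : Fin n, S.Adj i j ↔ (j.val = i.val + 1 ∨ i.val = j.val + 1))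
    (hgen : ⨆ i, S.L i = ⊤) : Nonempty (G ≃* Matrix.ProjectiveSpecialLinearGroup (Fin (n + 1)) F) := by
  -- parametrisations along the line
  have fam : ∀ m, m < n → ∃ φ : ℕ → SpecialLinearGroup (Fin 2) F →* G,
      (∀ i : Fin n, i.val ≤ m → S.Good i (φ i.val)) ∧
      ∀ j, j + 1 ≤ m → ∃ ψ : SpecialLinearGroup (Fin 3) F →* G, ψ.comp blkA = φ j ∧ ψ.comp blkB = φ (j + 1) := by
    intro m
    induction m with
    | zero =>
      intro _
      obtain ⟨φ0, h⟩ := S.exists_root hF (i := ⟨0, by omega⟩) (j := ⟨1, by omega⟩) ((hAdj _ _).mpr (Or.inl rfl))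
      refine ⟨fun _ => φ0, fun i hi => ?_, fun j hj => by omega⟩
      obtain rfl : i = ⟨0, by omega⟩ := Fin.ext (by simp; omega)
      exact h
    | succ m ih =>
      intro hm
      obtain ⟨φ, hg, hψ⟩ := ih (by omega)
      obtain ⟨φ', ψ', h', hA, hB⟩ := S.exists_step hF (i := ⟨m, by omega⟩) (j := ⟨m + 1, hm⟩)
        ((hAdj _ _).mpr (Or.inl rfl)) (hg ⟨m, by omega⟩ le_rfl)
      refine ⟨Function.update φ (m + 1) φ', fun i hi => ?_, fun j hj => ?_⟩
      · by_cases hie : i.val = m + 1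
        · obtain rfl : i = ⟨m + 1, hm⟩ := Fin.ext hie
          simpa using h'
        · rw [Function.update_of_ne hie]; exact hg i (by omega)
      · rcases Nat.lt_or_ge j m with hlt | hge
        · obtain ⟨ψ, a, b⟩ := hψ j hlt
          exact ⟨ψ, by rw [a, Function.update_of_ne (by omega)], by rw [b, Function.update_of_ne (by omega)]⟩
        · obtain rfl : j = m := by omega
          exact ⟨ψ', by rw [hA, Function.update_of_ne (by omega)], by rw [hB, Function.update_self]⟩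
  obtain ⟨φ, hg, hψ⟩ := fam (n - 1) (by omega)
  have hG : ∀ i : Fin n, S.Good i (φ i.val) := fun i => hg i (by omega)
  obtain ⟨k, rfl⟩ : ∃ k, n = k + 2 := ⟨n - 2, by omega⟩
  obtain ⟨μ, hμ⟩ := exists_hom (k + 2) φ (fun j hj => hψ j (by omega))
    (fun i j hij hj m m' => S.h1' ⟨i, by omega⟩ ⟨j, hj⟩ (fun e => by have := congrArg Fin.val e; simp at this; omega)
      (fun h => by rw [hAdj] at h; simp at h; omega) (φ i m)
      (show φ i m ∈ S.L ⟨i, by omega⟩ by rw [← (hG ⟨i, by omega⟩).2.1]; exact ⟨m, rfl⟩) (φ j m')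
      (show φ j m' ∈ S.L ⟨j, hj⟩ by rw [← (hG ⟨j, hj⟩).2.1]; exact ⟨m', rfl⟩)) k le_rfl
  have hsurj : Function.Surjective μ := by
    rw [← MonoidHom.range_eq_top, eq_top_iff, ← hgen]
    refine iSup_le fun i => ?_
    rw [← (hG i).2.1]
    rintro _ ⟨m, rfl⟩
    refine mem_of_gens (μ.range.comap (φ i.val)) (fun t => ?_) (fun t => ?_) m
    · exact ⟨_, (hμ i.val (by omega) t).1⟩
    · exact ⟨_, (hμ i.val (by omega) t).2⟩
  have hZ : Subgroup.center G = ⊥ := by
    refine (IsSimpleGroup.eq_bot_or_eq_top_of_normal _ inferInstance).resolve_right fun htop => ?_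
    have h := hG ⟨0, by omega⟩
    have hc : uu (1 : F) * ll 1 = ll 1 * uu 1 := h.1 (by
      rw [map_mul, map_mul]
      exact (Subgroup.mem_center_iff.mp (htop ▸ Subgroup.mem_top (φ 0 (uu 1))) (φ 0 (ll 1))).symm)
    have := congrFun (congrFun (congrArg Subtype.val hc) 0) 0
    rw [val_mul', val_mul'] at this
    simp [uu, ll, Matrix.mul_apply, Fin.sum_univ_two] at this
  have hk : Subgroup.center (SpecialLinearGroup (Fin (k + 3)) F) ≤ μ.ker := by
    intro a ha
    have : μ a ∈ Subgroup.center G := Subgroup.mem_center_iff.mpr fun y => by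
      obtain ⟨b, rfl⟩ := hsurj y
      rw [← map_mul, ← map_mul, Subgroup.mem_center_iff.mp ha b]
    rwa [hZ, Subgroup.mem_bot] at this
  haveI := CfsgLib.SLPerfect.isSimpleGroup (F := F) (n := k + 3) (by omega)
  let g : Matrix.ProjectiveSpecialLinearGroup (Fin (k + 3)) F →* G := QuotientGroup.lift _ μ hk
  have hgs : Function.Surjective g := QuotientGroup.lift_surjective_of_surjective _ μ hsurj hk
  have hgi : Function.Injective g := by
    rw [← MonoidHom.ker_eq_bot_iff]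
    refine (IsSimpleGroup.eq_bot_or_eq_top_of_normal _ inferInstance).resolve_right fun htop => ?_
    obtain ⟨a, b, hab⟩ := exists_pair_ne G
    obtain ⟨x, rfl⟩ := hgs a
    obtain ⟨y, rfl⟩ := hgs b
    have hx : x ∈ g.ker := htop ▸ Subgroup.mem_top x
    have hy : y ∈ g.ker := htop ▸ Subgroup.mem_top y
    exact hab (by rw [MonoidHom.mem_ker.mp hx, MonoidHom.mem_ker.mp hy])
  exact ⟨(MulEquiv.ofBijective g ⟨hgi, hgs⟩).symm⟩

end CfsgLib.CTRec.TypeA
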