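/-
Curtis–Tits recognition: from compatible `SL₃`'s on the edges to the Chevalley group.
-/
import Cfsg.Agent.Lib.CTRec.Propagate
import Cfsg.Agent.Lib.ChevCT.Amalgam
import Cfsg.Agent.Lib.Chev.PerfectData

set_option autoImplicit false

namespace CfsgLib.CTRec

open Matrix Cfsg.Lie CfsgLib.Chev

/-- Positions of the six roots of a rank-two subsystem of type `A₂`. -/
def pos (l : Fin 6) : Fin 3 × Fin 3 := ![(0, 1), (1, 0), (1, 2), (2, 1), (0, 2), (2, 0)] l

/-- The opposite position. -/
def opp (l : Fin 6) : Fin 6 := ![1, 0, 3, 2, 5, 4] l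

theorem pos_ne (l : Fin 6) : (pos l).1 ≠ (pos l).2 := by fin_cases l <;> decide

/-- The index of the root in position `l` of the edge `e`. -/
def rootN (D : ChevalleyDatum) (e : ℕ × ℕ) (l : Fin 6) : ℕ :=
  ![D.simple e.1, D.neg (D.simple e.1), D.simple e.2, D.neg (D.simple e.2),
    (D.chainRoot (D.simple e.1) (D.simple e.2) 1).getD 0,
    D.neg ((D.chainRoot (D.simple e.1) (D.simple e.2) 1).getD 0)] l

/-- The sign of the root in position `l`. -/
def sgn (D : ChevalleyDatum) (e : ℕ × ℕ) (l : Fin 6) : ℤ :=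
  if l.val < 4 then 1 else D.chainM (D.simple e.1) (D.simple e.2) 1

/-- The two roots in positions `l`, `l'` satisfy the commutator relation of `SL₃`. -/
def pairOK (D : ChevalleyDatum) (e : ℕ × ℕ) (l l' : Fin 6) : Bool :=
  if l' = l ∨ l' = opp l then true
  else if (pos l).2 = (pos l').1 then
    match D.commTerms (rootN D e l) (rootN D e l') with
    | [(k, c, i, j)] => (List.finRange 6).any fun m =>
        decide (pos m = ((pos l).1, (pos l').2) ∧ k = rootN D e m ∧ i = 1 ∧ j = 1 ∧
          c * sgn D e m = sgn D e l * sgn D e l')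
    | _ => false
  else if (pos l).1 = (pos l').2 then
    match D.commTerms (rootN D e l) (rootN D e l') with
    | [(k, c, i, j)] => (List.finRange 6).any fun m =>
        decide (pos m = ((pos l').1, (pos l).2) ∧ k = rootN D e m ∧ i = 1 ∧ j = 1 ∧
          -(c * sgn D e m) = sgn D e l * sgn D e l')
    | _ => false
  else (D.commTerms (rootN D e l) (rootN D e l')).isEmpty

/-- The root `r` lies in the subsystem of the fundamental roots `i`, `j`. -/
def inSub (D : ChevalleyDatum) (i j r : ℕ) : Bool :=
  (List.range D.rank).all fun k => (k == i) || (k == j) || decide ((D.coroot.getD r #[]).getD k 0 = 0)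

/-- What the value at position `l` of the edge `e` depends on. -/
def key (e : ℕ × ℕ) (l : Fin 6) : ℕ × ℕ × ℕ :=
  ![(0, e.1, 0), (0, e.1, 1), (0, e.2, 0), (0, e.2, 1), (1 + e.1, e.2, 0), (1 + e.1, e.2, 1)] l

/-- The data of a simply laced tree. -/
def edgeCheck (D : ChevalleyDatum) (E : List (ℕ × ℕ)) : Bool :=
  (E.all fun e => decide (e.1 < D.rank) && decide (e.2 < D.rank) &&
      ((List.finRange 6).all fun l => decide (rootN D e l < D.nroots) &&
        decide (sgn D e l * sgn D e l = 1) && decide (sgn D e (opp l) = sgn D e l) &&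
        decide (D.neg (rootN D e l) = rootN D e (opp l)) && inSub D e.1 e.2 (rootN D e l) &&
        (List.finRange 6).all fun l' => pairOK D e l l') &&
      (List.range D.nroots).all fun r => !inSub D e.1 e.2 r ||
        (List.finRange 6).any fun l => r == rootN D e l) &&
  ((List.range D.rank).all fun i => E.any fun e => (i == e.1) || (i == e.2)) &&
  ((List.range D.rank).all fun i => (List.range D.rank).all fun j =>
    (E.any fun e => ((i == e.1) && (j == e.2)) || ((i == e.2) && (j == e.1))) ||
      ((List.range D.nroots).all fun r => !inSub D i j r ||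
          ((r == D.simple i) || (r == D.neg (D.simple i)) || (r == D.simple j) || (r == D.neg (D.simple j)))) &&
      ((i == j) || ([D.simple i, D.neg (D.simple i)].all fun r => [D.simple j, D.neg (D.simple j)].all fun s =>
          (D.commTerms r s).isEmpty && (D.commTerms s r).isEmpty))) &&
  E.all fun e => E.all fun e' => (List.finRange 6).all fun l => (List.finRange 6).all fun l' =>
    !(rootN D e l == rootN D e' l') || decide (key e l = key e' l')

theorem checkE6 : edgeCheck Cfsg.Lie.chevE6 [(0, 2), (2, 3), (3, 1), (3, 4), (4, 5)] = true := by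
  decide +kernel

theorem checkE7 : edgeCheck Cfsg.Lie.chevE7 [(0, 2), (2, 3), (3, 1), (3, 4), (4, 5), (5, 6)] = true := by
  decide +kernel

theorem checkE8 : edgeCheck Cfsg.Lie.chevE8 [(0, 2), (2, 3), (3, 1), (3, 4), (4, 5), (5, 6), (6, 7)] = true := by
  decide +kernel

section Relations

variable {F : Type*} [Field F]

/-- The transvection at position `l`. -/
def T (l : Fin 6) (t : F) : SpecialLinearGroup (Fin 3) F :=
  Matrix.SpecialLinearGroup.transvection (pos_ne l) t

theorem T_val (l : Fin 6) (t : F) : (T l t).1 = 1 + Matrix.single (pos l).1 (pos l).2 t := rfl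

theorem T_add (l : Fin 6) (a b : F) : T l (a + b) = T l a * T l b := by
  refine Subtype.ext ?_
  rw [val_mul', T_val, T_val, T_val, Matrix.single_add]
  simp only [add_mul, mul_add, one_mul, mul_one, single_mul_single_of_ne _ _ _ _ (Ne.symm (pos_ne l))]
  abel

theorem T_zero (l : Fin 6) : T l (0 : F) = 1 := by
  refine Subtype.ext ?_; simp [T_val, val_one']

theorem T_neg (l : Fin 6) (a : F) : T l (-a) = (T l a)⁻¹ :=
  eq_inv_of_mul_eq_one_left (by rw [← T_add, neg_add_cancel, T_zero])

theorem T_blk (t : F) : blkA (uu t) = T 0 t ∧ blkA (ll t) = T 1 t ∧ blkB (uu t) = T 2 t ∧ blkB (ll t) = T 3 t := by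
  refine ⟨?_, ?_, ?_, ?_⟩
  all_goals
    refine Subtype.ext ?_
    simp only [T_val, blkA_val, blkB_val]
    ext i j
    fin_cases i <;> fin_cases j <;> simp [pos, uu, ll, Matrix.one_apply, Matrix.single_apply]

theorem T_comm_chain {l l' m : Fin 6} (h : (pos l).2 = (pos l').1) (hm : pos m = ((pos l).1, (pos l').2))
    (x y : F) : (T l' y)⁻¹ * (T l x)⁻¹ * T l' y * T l x = T m (-(x * y)) := by
  have hne : (pos l).1 ≠ (pos l').2 := by
    have := pos_ne m; rw [hm] at this; exact this
  have h1 := pos_ne l
  have h2 := pos_ne l'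
  rw [h] at h1
  have sn : ∀ (a b : Fin 3) (c : F), Matrix.single a b (-c) = - Matrix.single a b c := fun a b c => by
    ext p q; simp [Matrix.single_apply]; split_ifs <;> simp
  rw [← T_neg, ← T_neg]
  refine Subtype.ext ?_
  simp only [val_mul', T_val, hm, h]
  simp only [mul_add, add_mul, mul_one, one_mul, mul_assoc, single_mul_single_same,
    single_mul_single_of_ne _ _ _ _ (Ne.symm h1), single_mul_single_of_ne _ _ _ _ (Ne.symm h2),
    single_mul_single_of_ne _ _ _ _ (Ne.symm hne), mul_zero, add_zero, zero_add, Matrix.single_neg,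
    neg_mul, mul_neg, neg_neg, neg_zero, mul_comm y x]
  simp only [sn]
  abel

theorem T_comm_commute {l l' : Fin 6} (h : (pos l).2 ≠ (pos l').1) (h' : (pos l).1 ≠ (pos l').2)
    (x y : F) : (T l' y)⁻¹ * (T l x)⁻¹ * T l' y * T l x = 1 := by
  have : T l x * T l' y = T l' y * T l x := by
    refine Subtype.ext ?_
    simp only [val_mul', T_val, mul_add, add_mul, mul_one, one_mul, single_mul_single_of_ne _ _ _ _ h,
      single_mul_single_of_ne _ _ _ _ (Ne.symm h'), add_zero]
    abel
  rw [mul_assoc ((T l' y)⁻¹ * (T l x)⁻¹), ← this]; group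

/-- `n(t)` at position `l`. -/
def TW (l : Fin 6) (t : F) : SpecialLinearGroup (Fin 3) F := T l t * T (opp l) (-t⁻¹) * T l t

set_option maxHeartbeats 2000000 in
theorem TW_mul (l : Fin 6) {s a b : F} (hs : s = 1 ∨ s = -1) (ha : a ≠ 0) (hb : b ≠ 0) :
    TW l (s * a) * TW l (-s) * (TW l (s * b) * TW l (-s)) = TW l (s * (a * b)) * TW l (-s) := by
  refine Subtype.ext ?_
  simp only [TW, val_mul', T_val]
  ext i j
  rcases hs with rfl | rfl <;> fin_cases l <;> fin_cases i <;> fin_cases j <;>
    simp [pos, opp, Matrix.mul_apply, Fin.sum_univ_three, Matrix.one_apply, Matrix.single_apply] <;>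
    field_simp <;> ring

variable {D : ChevalleyDatum} (Φ : Chev D) {G : Type*} [Group G] {E : List (ℕ × ℕ)}

set_option maxHeartbeats 1000000 in
/-- Generic: compatible maps of `SL₃` on the edges give a surjection from the Steinberg group. -/
theorem exists_st_hom [Finite F] (hadj : Φ.Adj) (hcox : Φ.IsCox) (hE : edgeCheck D E = true)
    (φ : ℕ → SpecialLinearGroup (Fin 2) F →* G)
    (hψ : ∀ e ∈ E, ∃ ψ : SpecialLinearGroup (Fin 3) F →* G, ψ.comp blkA = φ e.1 ∧ ψ.comp blkB = φ e.2)
    (hcomm : ∀ i < D.rank, ∀ j < D.rank, i ≠ j → (i, j) ∉ E → (j, i) ∉ E →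
      ∀ m m', Commute (φ i m) (φ j m'))
    (hgen : ⨆ (i : ℕ) (_ : i < D.rank), (φ i).range = ⊤) :
    ∃ f : D.SteinbergGroup F →* G, Function.Surjective f := by
  classical
  simp only [edgeCheck, Bool.and_eq_true, Bool.or_eq_true, List.all_eq_true, List.any_eq_true,
    List.mem_finRange, decide_eq_true_eq, List.mem_range, forall_const, Bool.not_eq_true', beq_iff_eq,
    true_and] at hE
  obtain ⟨⟨⟨hedge, hcov⟩, hpair⟩, hkey⟩ := hE
  choose ψ hψA hψB using hψ
  -- the value at a position of an edge
  let v : ∀ e ∈ E, Fin 6 → F → G := fun e he l t => ψ e he (T l ((sgn D e l : F) * t))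
  have hnode : ∀ e (he : e ∈ E) (t : F), v e he 0 t = φ e.1 (uu t) ∧ v e he 1 t = φ e.1 (ll t) ∧
      v e he 2 t = φ e.2 (uu t) ∧ v e he 3 t = φ e.2 (ll t) := by
    intro e he t
    obtain ⟨a, b, c, d⟩ := T_blk t
    simp only [v, sgn, show ((0 : Fin 6).val < 4) from by decide, show ((1 : Fin 6).val < 4) from by decide,
      show ((2 : Fin 6).val < 4) from by decide, show ((3 : Fin 6).val < 4) from by decide, if_true,
      Int.cast_one, one_mul, ← a, ← b, ← c, ← d]
    exact ⟨DFunLike.congr_fun (hψA e he) _, DFunLike.congr_fun (hψA e he) _,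
      DFunLike.congr_fun (hψB e he) _, DFunLike.congr_fun (hψB e he) _⟩
  let val : Fin D.nroots × F → G := fun p =>
    if h : ∃ q : (ℕ × ℕ) × Fin 6, q.1 ∈ E ∧ rootN D q.1 q.2 = p.1.val then
      v h.choose.1 h.choose_spec.1 h.choose.2 p.2 else 1
  have hkeyval : ∀ e (he : e ∈ E) e' (he' : e' ∈ E) l l' t, key e l = key e' l' → v e he l t = v e' he' l' t := by
    intro e he e' he' l l' t h
    obtain ⟨a0, a1, a2, a3⟩ := hnode e he t
    obtain ⟨b0, b1, b2, b3⟩ := hnode e' he' t
    obtain ⟨e1, e2⟩ := e
    obtain ⟨f1, f2⟩ := e'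
    fin_cases l <;> fin_cases l' <;> simp [key] at h <;>
      first
        | (obtain ⟨rfl, rfl⟩ := h; rfl)
        | (subst h; simp only [Fin.isValue, Fin.zero_eta, Fin.mk_one, Fin.reduceFinMk, a0, a1, a2, a3, b0, b1, b2, b3])
        | omega
  have hval : ∀ e (he : e ∈ E) l (r : Fin D.nroots) t, rootN D e l = r.val → val (r, t) = v e he l t := by
    intro e he l r t hr
    have hex : ∃ q : (ℕ × ℕ) × Fin 6, q.1 ∈ E ∧ rootN D q.1 q.2 = r.val := ⟨(e, l), he, hr⟩
    simp only [val, dif_pos hex]
    refine hkeyval _ hex.choose_spec.1 _ he _ _ t ?_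
    exact (hkey _ hex.choose_spec.1 _ he _ _).resolve_left (by simp [hex.choose_spec.2, hr])
  have hsub : ∀ {i j r : ℕ}, D.InRankTwoSub i j r → inSub D i j r = true := by
    intro i j r h
    simp only [inSub, List.all_eq_true, List.mem_range, Bool.or_eq_true, decide_eq_true_eq, beq_iff_eq]
    intro k hk
    by_cases h1 : k = i
    · exact Or.inl (Or.inl h1)
    by_cases h2 : k = j
    · exact Or.inl (Or.inr h2)
    exact Or.inr (h.2.2.2 k hk h1 h2)
  have hin_edge : ∀ {i j r : ℕ} e, e ∈ E → ((i = e.1 ∧ j = e.2) ∨ (i = e.2 ∧ j = e.1)) →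
      D.InRankTwoSub i j r → ∃ l, r = rootN D e l := by
    intro i j r e he ho h
    have h' : D.InRankTwoSub e.1 e.2 r := by
      rcases ho with ⟨rfl, rfl⟩ | ⟨rfl, rfl⟩
      · exact h
      · exact ⟨h.1, h.2.2.1, h.2.1, fun k hk a b => h.2.2.2 k hk b a⟩
    exact ((hedge e he).2 r h.1).resolve_left (by simp [hsub h'])
  -- every root in some rank two subsystem occurs at an edge
  have hany : ∀ {i j r : ℕ}, D.InRankTwoSub i j r → ∃ e ∈ E, ∃ l, r = rootN D e l := by
    intro i j r h
    rcases hpair i h.2.1 j h.2.2.1 with ⟨e, he, ho⟩ | ⟨hroots, -⟩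
    · exact ⟨e, he, hin_edge e he ho h⟩
    · have hnd : ∀ k < D.rank, (r = D.simple k ∨ r = D.neg (D.simple k)) → ∃ e ∈ E, ∃ l, r = rootN D e l := by
        intro k hk hr
        obtain ⟨e, he, hke⟩ := hcov k hk
        refine ⟨e, he, ?_⟩
        rcases hr with hr | hr <;> rcases hke with hke | hke
        exacts [⟨0, by simp [rootN, hr, hke]⟩, ⟨2, by simp [rootN, hr, hke]⟩,
          ⟨1, by simp [rootN, hr, hke]⟩, ⟨3, by simp [rootN, hr, hke]⟩]
      rcases (hroots r h.1).resolve_left (by simp [hsub h]) with ((hr | hr) | hr) | hr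
      exacts [hnd i h.2.1 (Or.inl hr), hnd i h.2.1 (Or.inr hr), hnd j h.2.2.1 (Or.inl hr),
        hnd j h.2.2.1 (Or.inr hr)]
  have hX : ∀ e (he : e ∈ E) (l : Fin 6) (x : F),
      FreeGroup.lift val (D.stX (rootN D e l) x) = ψ e he (T l ((sgn D e l : F) * x)) := by
    intro e he l x
    have hlt : rootN D e l < D.nroots := ((hedge e he).1.2 l).1.1.1.1.1
    rw [ChevalleyDatum.stX, dif_pos hlt, FreeGroup.lift_apply_of, hval e he l _ x rfl]
  have hrels : ∀ w ∈ D.curtisTitsRels F, FreeGroup.lift val w = 1 := by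
    rintro w (((⟨r, t, hr, hno, rfl⟩ | ⟨i, j, r, a, b, hij, rfl⟩) |
        ⟨i, j, r, s, t, u, h1, h2, hne, hneg, rfl⟩) | ⟨i, j, r, a, b, hij, ha, hb, rfl⟩)
    · rw [ChevalleyDatum.stX, dif_pos hr, FreeGroup.lift_apply_of]
      simp only [val]
      rw [dif_neg]
      rintro ⟨⟨e, l⟩, he, hl⟩
      have hl' : rootN D e l = r := hl
      obtain ⟨⟨he1, he2⟩, hl6⟩ := (hedge e he).1
      have h4 : inSub D e.1 e.2 r = true := hl' ▸ (hl6 l).1.2
      refine hno e.1 e.2 ⟨hr, he1, he2, fun k hk a b => ?_⟩
      simp only [inSub, List.all_eq_true, List.mem_range, Bool.or_eq_true, decide_eq_true_eq,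
        beq_iff_eq] at h4
      exact (h4 k hk).resolve_left (by rintro (c | c); exacts [a c, b c])
    · obtain ⟨e, he, l, rfl⟩ := hany hij
      simp only [map_mul, map_inv, hX e he, mul_add, T_add]
      group
    · by_cases hed : ∃ e ∈ E, (i = e.1 ∧ j = e.2) ∨ (i = e.2 ∧ j = e.1)
      · obtain ⟨e, he, ho⟩ := hed
        obtain ⟨l, rfl⟩ := hin_edge e he ho h1
        obtain ⟨l', rfl⟩ := hin_edge e he ho h2
        have hp := ((hedge e he).1.2 l).2 l'
        have hll : ¬ (l' = l ∨ l' = opp l) := by
          rintro (rfl | rfl)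
          · exact hne rfl
          · exact hneg ((hedge e he).1.2 l).1.1.2.symm
        simp only [pairOK, if_neg hll] at hp
        simp only [map_mul, map_inv, hX e he]
        rw [← map_inv (ψ e he), ← map_inv (ψ e he), ← map_mul, ← map_mul, ← map_mul]
        have fin : ∀ c : ℤ, ∀ m : Fin 6,
            D.commTerms (rootN D e l) (rootN D e l') = [(rootN D e m, c, 1, 1)] →
            (T l' ((sgn D e l' : F) * u))⁻¹ * (T l ((sgn D e l : F) * t))⁻¹ *
              T l' ((sgn D e l' : F) * u) * T l ((sgn D e l : F) * t) =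
              T m ((sgn D e m : F) * ((c : F) * (-t) ^ 1 * u ^ 1)) →
            ψ e he ((T l' ((sgn D e l' : F) * u))⁻¹ * (T l ((sgn D e l : F) * t))⁻¹ *
              T l' ((sgn D e l' : F) * u) * T l ((sgn D e l : F) * t)) *
              (FreeGroup.lift val (D.stWord (D.commWord F (rootN D e l) (rootN D e l') t u)))⁻¹ = 1 := by
          intro c m hc hT
          rw [hT, ChevalleyDatum.commWord, hc]
          simp only [List.map_cons, List.map_nil, ChevalleyDatum.stWord, List.prod_cons, List.prod_nil,
            mul_one, hX e he, mul_inv_cancel]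
        by_cases hb : (pos l).2 = (pos l').1
        · rw [if_pos hb] at hp
          split at hp
          · rename_i k c i' j' hc
            simp only [List.any_eq_true, List.mem_finRange, true_and, decide_eq_true_eq] at hp
            obtain ⟨m, hm, rfl, rfl, rfl, hs⟩ := hp
            refine fin c m hc ?_
            rw [T_comm_chain hb hm]
            congr 1
            have : (c : F) * (sgn D e m : F) = (sgn D e l : F) * (sgn D e l' : F) := by
              exact_mod_cast congrArg (fun z : ℤ => (z : F)) hs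
            linear_combination (t * u) * this
          · simp at hp
        · rw [if_neg hb] at hp
          by_cases ha : (pos l).1 = (pos l').2
          · rw [if_pos ha] at hp
            split at hp
            · rename_i k c i' j' hc
              simp only [List.any_eq_true, List.mem_finRange, true_and, decide_eq_true_eq] at hp
              obtain ⟨m, hm, rfl, rfl, rfl, hs⟩ := hp
              refine fin c m hc ?_
              have e2 : ∀ g h : SpecialLinearGroup (Fin 3) F, h⁻¹ * g⁻¹ * h * g = (g⁻¹ * h⁻¹ * g * h)⁻¹ :=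
                fun g h => by group
              have e3 := T_comm_chain ha.symm hm ((sgn D e l' : F) * u) ((sgn D e l : F) * t)
              rw [e2, e3, ← T_neg]
              congr 1
              have : -((c : F) * (sgn D e m : F)) = (sgn D e l : F) * (sgn D e l' : F) := by
                exact_mod_cast congrArg (fun z : ℤ => (z : F)) hs
              linear_combination -(t * u) * this
            · simp at hp
          · rw [if_neg ha] at hp
            rw [T_comm_commute hb ha, map_one, one_mul, ChevalleyDatum.commWord,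
              List.isEmpty_iff.mp hp]
            simp [ChevalleyDatum.stWord]
      · obtain ⟨hroots, hempty⟩ := (hpair i h1.2.1 j h1.2.2.1).resolve_left hed
        have hr' := (hroots r h1.1).resolve_left (by simp [hsub h1])
        have hs' := (hroots s h2.1).resolve_left (by simp [hsub h2])
        have hnn : ∀ k < D.rank, ∀ x : F, ∀ r', (r' = D.simple k ∨ r' = D.neg (D.simple k)) →
            ∃ m, FreeGroup.lift val (D.stX r' x) = φ k m := by
          intro k hk x r' hr
          obtain ⟨e, he, hke⟩ := hcov k hk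
          rcases hr with rfl | rfl <;> rcases hke with rfl | rfl
          · exact ⟨uu x, (hX e he 0 x).trans (hnode e he x).1⟩
          · exact ⟨uu x, (hX e he 2 x).trans (hnode e he x).2.2.1⟩
          · exact ⟨ll x, (hX e he 1 x).trans (hnode e he x).2.1⟩
          · exact ⟨ll x, (hX e he 3 x).trans (hnode e he x).2.2.2⟩
        have hnegneg : ∀ k < D.rank, D.neg (D.neg (D.simple k)) = D.simple k := by
          intro k hk
          rw [Φ.simple_val ⟨k, hk⟩, show D.neg (Φ.p ⟨k, hk⟩).val = (Φ.p ⟨k, hk⟩).rev.val from Φ.negIdx_eq _,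
            show D.neg (Φ.p ⟨k, hk⟩).rev.val = (Φ.p ⟨k, hk⟩).rev.rev.val from Φ.negIdx_eq _, Fin.rev_rev]
        have hsame : ∀ k < D.rank, (r = D.simple k ∨ r = D.neg (D.simple k)) →
            (s = D.simple k ∨ s = D.neg (D.simple k)) → False := by
          rintro k hk (rfl | rfl) (rfl | rfl)
          · exact hne rfl
          · exact hneg rfl
          · exact hneg (hnegneg k hk).symm
          · exact hne rfl
        have main : ∀ a' b', a' < D.rank → b' < D.rank → ((a' = i ∧ b' = j) ∨ (a' = j ∧ b' = i)) →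
            (r = D.simple a' ∨ r = D.neg (D.simple a')) → (s = D.simple b' ∨ s = D.neg (D.simple b')) →
            FreeGroup.lift val ((D.stX s u)⁻¹ * (D.stX r t)⁻¹ * D.stX s u * D.stX r t *
              (D.stWord (D.commWord F r s t u))⁻¹) = 1 := by
          intro a' b' ha' hb' hab hr hs
          have hij : i ≠ j := by
            rintro rfl
            rcases hab with ⟨rfl, rfl⟩ | ⟨rfl, rfl⟩ <;> exact hsame _ ha' hr hs
          have hemp := hempty.resolve_left hij
          have hterms : D.commTerms r s = [] := by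
            rcases hab with ⟨rfl, rfl⟩ | ⟨rfl, rfl⟩
            · exact List.isEmpty_iff.mp (hemp r (by simpa using hr) s (by simpa using hs)).1
            · exact List.isEmpty_iff.mp (hemp s (by simpa using hs) r (by simpa using hr)).2
          obtain ⟨m, hm⟩ := hnn a' ha' t r hr
          obtain ⟨m', hm'⟩ := hnn b' hb' u s hs
          have hne' : a' ≠ b' := by rcases hab with ⟨rfl, rfl⟩ | ⟨rfl, rfl⟩; exacts [hij, hij.symm]
          have hE' : (a', b') ∉ E ∧ (b', a') ∉ E := by
            constructor <;> intro hmem <;> apply hed <;> refine ⟨_, hmem, ?_⟩ <;>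
              rcases hab with ⟨rfl, rfl⟩ | ⟨rfl, rfl⟩ <;> simp
          have hc := hcomm a' ha' b' hb' hne' hE'.1 hE'.2 m m'
          simp only [map_mul, map_inv, hm, hm', ChevalleyDatum.commWord, hterms, List.map_nil,
            ChevalleyDatum.stWord, List.prod_nil, map_one, _root_.inv_one, mul_one]
          rw [mul_assoc ((φ b' m')⁻¹ * (φ a' m)⁻¹), ← hc.eq]; group
        have hr2 : (r = D.simple i ∨ r = D.neg (D.simple i)) ∨ (r = D.simple j ∨ r = D.neg (D.simple j)) := by
          tauto
        have hs2 : (s = D.simple i ∨ s = D.neg (D.simple i)) ∨ (s = D.simple j ∨ s = D.neg (D.simple j)) := by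
          tauto
        rcases hr2 with hr | hr <;> rcases hs2 with hs | hs
        · exact (hsame i h1.2.1 hr hs).elim
        · exact main i j h1.2.1 h1.2.2.1 (Or.inl ⟨rfl, rfl⟩) hr hs
        · exact main j i h1.2.2.1 h1.2.1 (Or.inr ⟨rfl, rfl⟩) hr hs
        · exact (hsame j h1.2.2.1 hr hs).elim
    · obtain ⟨e, he, l, rfl⟩ := hany hij
      obtain ⟨⟨⟨⟨-, hsq⟩, hso⟩, hno⟩, -⟩ := ((hedge e he).1.2 l).1
      have hh : ∀ c : F, c ≠ 0 → FreeGroup.lift val (D.stH (rootN D e l) c) =
          ψ e he (TW l ((sgn D e l : F) * c) * TW l (-(sgn D e l : F))) := by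
        intro c hc
        have hs1 : (sgn D e l : F) * (sgn D e l : F) = 1 := by exact_mod_cast congrArg (fun z : ℤ => (z : F)) hsq
        have hs0 : (sgn D e l : F)⁻¹ = (sgn D e l : F) := inv_eq_of_mul_eq_one_right hs1
        simp only [ChevalleyDatum.stH, ChevalleyDatum.stWord, ChevalleyDatum.hWord, ChevalleyDatum.nWord, hno,
          List.cons_append, List.nil_append, List.map_cons, List.map_nil, List.prod_cons, List.prod_nil,
          map_mul, hX e he, hso, TW, mul_one, mul_assoc, mul_inv, hs0, inv_neg, _root_.inv_one, mul_neg, neg_neg]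
      have hsgn : (sgn D e l : F) = 1 ∨ (sgn D e l : F) = -1 :=
        mul_self_eq_one_iff.mp (by exact_mod_cast congrArg (fun z : ℤ => (z : F)) hsq)
      rw [map_mul, map_mul, map_inv, mul_inv_eq_one, hh a ha, hh b hb, hh (a * b) (mul_ne_zero ha hb),
        ← map_mul, TW_mul l hsgn ha hb]
  let f1 : D.CurtisTitsGroup F →* G := PresentedGroup.toGroup (f := val) hrels
  obtain ⟨ε, -⟩ := Φ.curtis_tits (F := F) hadj hcox
  refine ⟨f1.comp ε.symm.toMonoidHom, ?_⟩
  suffices hf1 : Function.Surjective f1 from hf1.comp ε.symm.surjective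
  rw [← MonoidHom.range_eq_top, eq_top_iff, ← hgen]
  refine iSup₂_le fun k hk => ?_
  rintro _ ⟨m, rfl⟩
  obtain ⟨e, he, hke⟩ := hcov k hk
  refine mem_of_gens (f1.range.comap (φ k)) (fun t => ?_) (fun t => ?_) m
  all_goals
    rw [Subgroup.mem_comap]
  · rcases hke with rfl | rfl
    · exact ⟨PresentedGroup.mk _ (D.stX (rootN D e 0) t), (hX e he 0 t).trans (hnode e he t).1⟩
    · exact ⟨PresentedGroup.mk _ (D.stX (rootN D e 2) t), (hX e he 2 t).trans (hnode e he t).2.2.1⟩
  · rcases hke with rfl | rfl
    · exact ⟨PresentedGroup.mk _ (D.stX (rootN D e 1) t), (hX e he 1 t).trans (hnode e he t).2.1⟩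
    · exact ⟨PresentedGroup.mk _ (D.stX (rootN D e 3) t), (hX e he 3 t).trans (hnode e he t).2.2.2⟩

end Relations

end CfsgLib.CTRec
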