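/-
Curtis–Tits recognition for the exceptional simply laced diagrams.
-/
import Cfsg.Agent.Lib.CTRec.TypeE

set_option autoImplicit false

namespace CfsgLib.CTRec

open Matrix Cfsg.Lie CfsgLib.Chev

/-- The edges are listed outwards from the node `0`. -/
def treeCheck (D : ChevalleyDatum) (E : List (ℕ × ℕ)) : Bool :=
  ((List.range E.length).all fun m =>
    let known := 0 :: (E.take m).map Prod.snd
    known.contains (E.getD m (0, 0)).1 && !known.contains (E.getD m (0, 0)).2) &&
  ((List.range D.rank).all fun i => (0 :: E.map Prod.snd).contains i)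

theorem treeE6 : treeCheck Cfsg.Lie.chevE6 [(0, 2), (2, 3), (3, 1), (3, 4), (4, 5)] = true := by decide +kernel
theorem treeE7 : treeCheck Cfsg.Lie.chevE7 [(0, 2), (2, 3), (3, 1), (3, 4), (4, 5), (5, 6)] = true := by
  decide +kernel
theorem treeE8 : treeCheck Cfsg.Lie.chevE8 [(0, 2), (2, 3), (3, 1), (3, 4), (4, 5), (5, 6), (6, 7)] = true := by
  decide +kernel

variable {F : Type*} [Field F] [Fintype F] {G : Type*} [Group G] [Finite G]

theorem exists_family {n : ℕ} (hn : 0 < n) (S : Setup (Fin n) F G) (hF : Odd (Fintype.card F))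
    (h0 : ∃ j, S.Adj ⟨0, hn⟩ j) (E : List (ℕ × ℕ))
    (hlt : ∀ e ∈ E, ∃ (a : e.1 < n) (b : e.2 < n), S.Adj ⟨e.1, a⟩ ⟨e.2, b⟩)
    (htree : ∀ m < E.length, (E.getD m (0, 0)).1 ∈ 0 :: (E.take m).map Prod.snd ∧
      (E.getD m (0, 0)).2 ∉ 0 :: (E.take m).map Prod.snd) :
    ∃ φ : ℕ → SpecialLinearGroup (Fin 2) F →* G,
      (∀ i : Fin n, i.val ∈ 0 :: E.map Prod.snd → S.Good i (φ i.val)) ∧
      ∀ e ∈ E, ∃ ψ : SpecialLinearGroup (Fin 3) F →* G, ψ.comp blkA = φ e.1 ∧ ψ.comp blkB = φ e.2 := by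
  induction E using List.reverseRecOn with
  | nil =>
    obtain ⟨j, hj⟩ := h0
    obtain ⟨φ0, hφ0⟩ := S.exists_root hF hj
    refine ⟨fun _ => φ0, fun i hi => ?_, by simp⟩
    simp at hi
    obtain rfl : i = ⟨0, hn⟩ := Fin.ext hi
    exact hφ0
  | append_singleton E e ih =>
    obtain ⟨φ, hgood, hψ⟩ := ih (fun x hx => hlt x (List.mem_append_left _ hx)) (fun m hm => by
      have h := htree m (by simp; omega)
      rw [List.getD_append _ _ _ _ hm, List.take_append_of_le_length hm.le] at h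
      exact h)
    obtain ⟨hsrc, hdst⟩ : e.1 ∈ 0 :: E.map Prod.snd ∧ e.2 ∉ 0 :: E.map Prod.snd := by
      have h := htree E.length (by simp)
      simp at h
      simpa using h
    obtain ⟨a, b, hadj⟩ := hlt e (by simp)
    obtain ⟨φ', ψ', hφ', hψA, hψB⟩ := S.exists_step hF hadj (hgood ⟨e.1, a⟩ hsrc)
    refine ⟨Function.update φ e.2 φ', fun i hi => ?_, fun x hx => ?_⟩
    · by_cases hie : i.val = e.2
      · obtain rfl : i = ⟨e.2, b⟩ := Fin.ext hie
        simpa using hφ'
      · rw [Function.update_of_ne hie]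
        refine hgood i ?_
        simp only [List.map_append, List.map_cons, List.map_nil, List.mem_cons, List.mem_append,
          List.not_mem_nil, or_false] at hi
        simp only [List.mem_cons]
        tauto
    · rcases List.mem_append.mp hx with hx | hx
      · obtain ⟨ψ, hA, hB⟩ := hψ x hx
        have hx2 : x.2 ∈ 0 :: E.map Prod.snd := List.mem_cons_of_mem _ (List.mem_map_of_mem hx)
        obtain ⟨m, hm, hxm⟩ := List.getElem_of_mem hx
        have hx1 : x.1 ∈ 0 :: E.map Prod.snd := by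
          have h := (htree m (by simp; omega)).1
          rw [List.getD_append _ _ _ _ hm, List.take_append_of_le_length hm.le,
            List.getD_eq_getElem _ _ hm, hxm] at h
          rcases List.mem_cons.mp h with h | h
          · exact List.mem_cons.mpr (Or.inl h)
          · exact List.mem_cons_of_mem _ ((List.Sublist.map _ (List.take_sublist m E)).subset h)
        exact ⟨ψ, by rw [hA, Function.update_of_ne (show x.1 ≠ e.2 from fun e' => hdst (e' ▸ hx1))],
          by rw [hB, Function.update_of_ne (show x.2 ≠ e.2 from fun e' => hdst (e' ▸ hx2))]⟩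
      · rw [List.mem_singleton] at hx
        subst hx
        have hne : x.1 ≠ x.2 := fun e' => hdst (e' ▸ hsrc)
        exact ⟨ψ', by rw [hψA, Function.update_of_ne hne], by rw [hψB, Function.update_self]⟩

/-- A simple group with such a configuration is the Chevalley group. -/
theorem iso_of_setup {D : ChevalleyDatum} (Φ : Chev D) (hadj : Φ.Adj) (hcox : Φ.IsCox)
    [IsSimpleGroup ↥(D.group F)] [IsSimpleGroup G] (E : List (ℕ × ℕ))
    (hE : edgeCheck D E = true) (ht : treeCheck D E = true)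
    (S : Setup (Fin D.rank) F G) (hF : Odd (Fintype.card F)) (hr : 0 < D.rank)
    (hAdj : ∀ i j : Fin D.rank, S.Adj i j ↔ (i.val, j.val) ∈ E ∨ (j.val, i.val) ∈ E)
    (h0 : ∃ j, S.Adj ⟨0, hr⟩ j) (hgen : ⨆ i, S.L i = ⊤) :
    Nonempty (G ≃* ↥(D.group F)) := by
  simp only [treeCheck, Bool.and_eq_true, Bool.not_eq_true', List.all_eq_true, List.mem_range,
    List.contains_iff_mem, decide_eq_true_eq] at ht
  have hltE : ∀ e ∈ E, e.1 < D.rank ∧ e.2 < D.rank := by
    intro e he
    simp only [edgeCheck, Bool.and_eq_true, List.all_eq_true, decide_eq_true_eq] at hE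
    exact (hE.1.1.1 e he).1.1
  obtain ⟨φ, hgood, hψ⟩ := exists_family hr S hF h0 E
    (fun e he => ⟨(hltE e he).1, (hltE e he).2, (hAdj _ _).mpr (Or.inl he)⟩)
    (fun m hm => ⟨(ht.1 m hm).1, fun h => by
      have := (ht.1 m hm).2
      rw [← Bool.not_eq_true, List.contains_iff_mem] at this
      exact this h⟩)
  have hG : ∀ i : Fin D.rank, S.Good i (φ i.val) := fun i => hgood i (ht.2 i.val i.isLt)
  obtain ⟨f, hf⟩ := exists_st_hom Φ hadj hcox hE φ hψ
    (fun i hi j hj hne h1 h2 m m' => S.h1' ⟨i, hi⟩ ⟨j, hj⟩ (fun e => hne (congrArg Fin.val e))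
      (fun h => ((hAdj _ _).mp h).elim h1 h2) _ ((hG ⟨i, hi⟩).2.1 ▸ ⟨m, rfl⟩) _ ((hG ⟨j, hj⟩).2.1 ▸ ⟨m', rfl⟩))
    (by
      rw [eq_top_iff, ← hgen]
      refine iSup_le fun i => ?_
      rw [← (hG i).2.1]
      exact le_iSup₂ (f := fun (k : ℕ) (_ : k < D.rank) => (φ k).range) i.val i.isLt)
  -- the centre of `G` is trivial
  have hZ : Subgroup.center G = ⊥ := by
    refine (IsSimpleGroup.eq_bot_or_eq_top_of_normal _ inferInstance).resolve_right fun htop => ?_
    have h := hG ⟨0, hr⟩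
    have hc : uu (1 : F) * ll 1 = ll 1 * uu 1 := h.1 (by
      rw [map_mul, map_mul]
      exact (Subgroup.mem_center_iff.mp (htop ▸ Subgroup.mem_top (φ 0 (uu 1))) (φ 0 (ll 1))).symm)
    have := congrFun (congrFun (congrArg Subtype.val hc) 0) 0
    rw [val_mul', val_mul'] at this
    simp [uu, ll, Matrix.mul_apply, Fin.sum_univ_two] at this
  let pr : D.SteinbergGroup F →* ↥(D.group F) := (Φ.proj F).codRestrict _ Φ.proj_mem_group
  have hpr : Function.Surjective pr := by
    rintro ⟨x, hx⟩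
    have hx' : x ∈ (Φ.proj F).range := by
      rw [Φ.toAlg.group_eq] at hx
      refine (Subgroup.closure_le _).mpr ?_ hx
      rintro _ ⟨r, t, rfl⟩
      exact ⟨_, Φ.proj_gx r t⟩
    obtain ⟨y, rfl⟩ := hx'
    exact ⟨y, rfl⟩
  have hk : pr.ker ≤ f.ker := by
    intro a ha
    have h1 : Φ.proj F a = 1 := congrArg Subtype.val ha
    have hc : a ∈ Subgroup.center (D.SteinbergGroup F) := by
      rw [← Φ.ker_proj_eq_center (F := F) hadj]; exact h1
    have : f a ∈ Subgroup.center G := Subgroup.mem_center_iff.mpr fun y => by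
      obtain ⟨b, rfl⟩ := hf y
      rw [← map_mul, ← map_mul, Subgroup.mem_center_iff.mp hc b]
    rwa [hZ, Subgroup.mem_bot] at this
  let g := MonoidHom.liftOfSurjective pr hpr ⟨f, hk⟩
  have hg : ∀ a, g (pr a) = f a := fun a => MonoidHom.liftOfRightInverse_comp_apply _ _ _ ⟨f, hk⟩ a
  have hgs : Function.Surjective g := fun y => by
    obtain ⟨a, rfl⟩ := hf y
    exact ⟨pr a, hg a⟩
  have hgi : Function.Injective g := by
    rw [← MonoidHom.ker_eq_bot_iff]
    refine (IsSimpleGroup.eq_bot_or_eq_top_of_normal _ inferInstance).resolve_right fun htop => ?_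
    obtain ⟨a, b, hab⟩ := exists_pair_ne G
    obtain ⟨x, rfl⟩ := hgs a
    obtain ⟨y, rfl⟩ := hgs b
    have hx : x ∈ g.ker := htop ▸ Subgroup.mem_top x
    have hy : y ∈ g.ker := htop ▸ Subgroup.mem_top y
    exact hab (by rw [MonoidHom.mem_ker.mp hx, MonoidHom.mem_ker.mp hy])
  exact ⟨(MulEquiv.ofBijective g ⟨hgi, hgs⟩).symm⟩

end CfsgLib.CTRec
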